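import Cfsg.Agent.Lib.Perm.TwoPrimeDegree.Multiplicity

/-!
# Constituents of a character with value zero on `⟨x⟩ \ 1` and degree `2p`

If a character of degree `2p` vanishes on the non-trivial powers of the self-centralising element
`x` of order `p`, contains the trivial character once and has no other linear constituent, then
its non-trivial constituents are one of degree `2p - 1`, or two of degrees `p` and `p - 1`, or
one of them has no fixed vector of `x` and degree equal to the number of multipliers.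
-/

set_option autoImplicit false
set_option linter.unusedSectionVars false
set_option linter.style.haveILetI false

namespace Cfsg.Agent.Lib.Perm.TwoPrimeDegree

open Cfsg Cfsg.Agent.Lib.Characters

universe u

variable {H : Type u} [Group H] [Fintype H] {p : ℕ} [hp : Fact p.Prime] {x : H}
  [Fintype (IrrCharacter H)]

theorem sq_diff (hx : orderOf x = p) (hC : ∀ g : H, g * x = x * g → ∃ i : ZMod p, g = pw x i)
    {j k : ZMod p} (hj : j ≠ 0) (hk : k ≠ 0) (hjk : ¬ Rel p x j k) :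
    ∑ χ : IrrCharacter H, ((dm p x χ j : ℤ) - dm p x χ k) ^ 2 = 2 := by
  classical
  simp only [sq]
  rw [orth hx hC, Finset.sum_eq_single 1 (fun m hm hne => ?_) (fun h => absurd one_mem_mults h)]
  · simp only [one_mul]
    rw [if_neg (fun h : k = j => hjk ⟨1, one_mem_mults, by rw [one_mul, h]⟩),
      if_neg (fun h : j = k => hjk ⟨1, one_mem_mults, by rw [one_mul, h]⟩)]
    norm_num
  · rw [if_neg (fun h : m * j = j => hne (mul_right_cancel₀ hj (h.trans (one_mul j).symm))),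
      if_neg (fun h : m * k = j => hjk (Rel.symm' hx ⟨m, hm, h⟩)),
      if_neg (fun h : m * j = k => hjk ⟨m, hm, h⟩),
      if_neg (fun h : m * k = k => hne (mul_right_cancel₀ hk (h.trans (one_mul k).symm)))]
    norm_num

theorem dot_diff (hx : orderOf x = p) (hC : ∀ g : H, g * x = x * g → ∃ i : ZMod p, g = pw x i)
    {j k j' k' : ZMod p} (h1 : ¬ Rel p x j j') (h2 : ¬ Rel p x j k') (h3 : ¬ Rel p x k j')
    (h4 : ¬ Rel p x k k') :
    ∑ χ : IrrCharacter H,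
      ((dm p x χ j : ℤ) - dm p x χ k) * ((dm p x χ j' : ℤ) - dm p x χ k') = 0 := by
  classical
  rw [orth hx hC]
  refine Finset.sum_eq_zero fun m hm => ?_
  rw [if_neg (fun h : m * j' = j => h1 (Rel.symm' hx ⟨m, hm, h⟩)),
    if_neg (fun h : m * k' = j => h2 (Rel.symm' hx ⟨m, hm, h⟩)),
    if_neg (fun h : m * j' = k => h3 (Rel.symm' hx ⟨m, hm, h⟩)),
    if_neg (fun h : m * k' = k => h4 (Rel.symm' hx ⟨m, hm, h⟩))]
  norm_num

/-- A sum over non-zero residues of a function invariant under the multipliers is divisible by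
their number. -/
theorem dvd_sum_invariant (hx : orderOf x = p) (f : ZMod p → ℕ)
    (hf : ∀ m ∈ mults p x, ∀ j, f (m * j) = f j) :
    (mults p x).card ∣ ∑ j ∈ (Finset.univ : Finset (ZMod p)).erase 0, f j := by
  classical
  rw [← Finset.sum_fiberwise_of_maps_to
    (g := fun j : ZMod p => (mults p x).image (fun m => m * j))
    (t := ((Finset.univ : Finset (ZMod p)).erase 0).image fun j => (mults p x).image (fun m => m * j))
    (fun j hj => Finset.mem_image_of_mem _ hj)]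
  refine Finset.dvd_sum fun O hO => ?_
  obtain ⟨j, hj, rfl⟩ := Finset.mem_image.1 hO
  have hj0 : j ≠ 0 := Finset.ne_of_mem_erase hj
  have hset : ((Finset.univ : Finset (ZMod p)).erase 0).filter
      (fun k => (mults p x).image (fun m => m * k) = (mults p x).image (fun m => m * j)) =
      (mults p x).image (fun m => m * j) := by
    ext k
    rw [Finset.mem_filter, Finset.mem_erase]
    constructor
    · rintro ⟨-, h⟩
      rw [← h]
      exact Finset.mem_image.2 ⟨1, one_mem_mults, one_mul k⟩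
    · intro h
      obtain ⟨m, hm, rfl⟩ := Finset.mem_image.1 h
      refine ⟨⟨mul_ne_zero (ne_zero_of_mem_mults hx hm) hj0, Finset.mem_univ _⟩, ?_⟩
      ext l
      simp only [Finset.mem_image]
      constructor
      · rintro ⟨n, hn, rfl⟩
        exact ⟨n * m, mul_mem_mults hx hn hm, mul_assoc n m j⟩
      · rintro ⟨n, hn, rfl⟩
        refine ⟨n * m⁻¹, mul_mem_mults hx hn (inv_mem_mults hx hm), ?_⟩
        rw [mul_assoc, inv_mul_cancel_left₀ (ne_zero_of_mem_mults hx hm)]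
  rw [hset, Finset.sum_image fun a _ b _ h => mul_right_cancel₀ hj0 h,
    Finset.sum_congr rfl fun m hm => hf m hm j, Finset.sum_const, smul_eq_mul]
  exact dvd_mul_right _ _

theorem degree_eq (hx : orderOf x = p) (χ : IrrCharacter H) :
    (χ : H → ℂ) 1 =
      ((dm p x χ 0 + ∑ j ∈ (Finset.univ : Finset (ZMod p)).erase 0, dm p x χ j : ℕ) : ℂ) := by
  classical
  rw [← sum_dm hx χ, Finset.add_sum_erase _ (fun j => dm p x χ j) (Finset.mem_univ (0 : ZMod p)),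
    Nat.cast_sum]

/-- The data for the classification. -/
structure Weights (p : ℕ) [Fact p.Prime] (x : H) (w : IrrCharacter H → ℕ) : Prop where
  order : orderOf x = p
  cent : ∀ g : H, g * x = x * g → ∃ i : ZMod p, g = pw x i
  total : ∀ j : ZMod p, ∑ χ : IrrCharacter H, w χ * dm p x χ j = 2
  triv : w (trivIrr H) = 1
  nonlinear : ∀ χ, χ ≠ trivIrr H → w χ ≠ 0 → (χ : H → ℂ) 1 ≠ 1
  mults : 1 < (mults p x).card

theorem dm_triv (hx : orderOf x = p) (j : ZMod p) :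
    dm p x (trivIrr H) j = if j = 0 then 1 else 0 := by
  classical
  have h := dm_spec hx (trivIrr H) j
  rw [show ((trivIrr H : IrrCharacter H) : H → ℂ) = fun _ => 1 from rfl] at h
  simp only [one_mul] at h
  rw [Finset.sum_congr rfl fun i _ => congrArg ZMod.stdAddChar
    (show -(i * j) = i * -j by ring), sum_std] at h
  split_ifs at h ⊢ with h1 h2 h2
  · exact_mod_cast (mul_left_cancel₀ (Nat.cast_ne_zero.2 hp.out.ne_zero : (p : ℂ) ≠ 0)
      (h.symm.trans (mul_one _).symm))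
  · simp_all
  · simp_all
  · exact_mod_cast (mul_eq_zero.1 h.symm).resolve_left (Nat.cast_ne_zero.2 hp.out.ne_zero)

variable {w : IrrCharacter H → ℕ}

theorem Weights.ne_triv (W : Weights p x w) {χ : IrrCharacter H} {j : ZMod p} (hj : j ≠ 0)
    (h : dm p x χ j ≠ 0) : χ ≠ trivIrr H := by
  rintro rfl
  rw [dm_triv W.order, if_neg hj] at h
  exact h rfl

/-- The partner of a constituent which is not constant on non-zero residues. -/
theorem Weights.partner (W : Weights p x w) {ξ : IrrCharacter H} (hξ : w ξ ≠ 0) {j k : ZMod p}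
    (hj : j ≠ 0) (hk : k ≠ 0) (hne : dm p x ξ j ≠ dm p x ξ k) :
    ∃ η : IrrCharacter H, η ≠ ξ ∧ w η = w ξ ∧ (η : H → ℂ) 1 = (ξ : H → ℂ) 1 ∧
      ((dm p x ξ j : ℤ) - dm p x ξ k = 1 ∨ (dm p x ξ j : ℤ) - dm p x ξ k = -1) ∧
      (dm p x η j : ℤ) - dm p x η k = -((dm p x ξ j : ℤ) - dm p x ξ k) ∧
      ∀ χ, χ ≠ ξ → χ ≠ η → dm p x χ j = dm p x χ k := by
  classical
  have hjk : ¬ Rel p x j k := fun h => hne (dm_rel W.order ξ h)
  set D : IrrCharacter H → ℤ := fun χ => (dm p x χ j : ℤ) - dm p x χ k with hDdef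
  have h2 : ∑ χ, D χ ^ 2 = 2 := sq_diff W.order W.cent hj hk hjk
  have hξ0 : D ξ ≠ 0 := fun h => hne (by simp only [hDdef] at h; omega)
  have hle : ∀ χ, D χ ^ 2 ≤ 1 := by
    intro χ
    have h := h2 ▸ Finset.single_le_sum (f := fun χ => D χ ^ 2) (fun i _ => sq_nonneg (D i))
      (Finset.mem_univ χ)
    have : D χ ≤ 1 ∧ -1 ≤ D χ := by constructor <;> nlinarith
    rcases (show D χ = -1 ∨ D χ = 0 ∨ D χ = 1 by omega) with e | e | e <;> rw [e] <;> norm_num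
  have hone : ∀ χ, D χ ≠ 0 → D χ ^ 2 = 1 := fun χ h => by
    have := hle χ
    have : 0 < D χ ^ 2 := by positivity
    omega
  have hrest : ∑ χ ∈ Finset.univ.erase ξ, D χ ^ 2 = 1 := by
    have := Finset.add_sum_erase Finset.univ (fun χ => D χ ^ 2) (Finset.mem_univ ξ)
    rw [h2, hone ξ hξ0] at this
    linarith
  obtain ⟨η, hη, hη0⟩ := Finset.exists_ne_zero_of_sum_ne_zero
    (show ∑ χ ∈ Finset.univ.erase ξ, D χ ^ 2 ≠ 0 by rw [hrest]; norm_num)
  have hηξ : η ≠ ξ := Finset.ne_of_mem_erase hη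
  have hη0' : D η ≠ 0 := fun h => hη0 (by rw [h]; norm_num)
  have hother : ∀ χ, χ ≠ ξ → χ ≠ η → D χ = 0 := by
    intro χ h1 h2'
    by_contra h
    have hmem : χ ∈ (Finset.univ.erase ξ).erase η := Finset.mem_erase.2
      ⟨h2', Finset.mem_erase.2 ⟨h1, Finset.mem_univ _⟩⟩
    have h3 := Finset.add_sum_erase _ (fun χ => D χ ^ 2) hη
    rw [hrest, hone η hη0'] at h3
    have h4 := Finset.single_le_sum (f := fun χ => D χ ^ 2) (fun i _ => sq_nonneg (D i)) hmem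
    rw [hone χ h] at h4
    linarith
  have hsumw : (w ξ : ℤ) * D ξ + (w η : ℤ) * D η = 0 := by
    have h0 : ∑ χ, (w χ : ℤ) * D χ = 0 := by
      have e : ∀ l, ∑ χ, (w χ : ℤ) * (dm p x χ l : ℤ) = 2 := fun l => by exact_mod_cast W.total l
      simp only [hDdef, mul_sub, Finset.sum_sub_distrib, e, sub_self]
    rw [← h0, Fintype.sum_eq_add ξ η hηξ.symm fun χ hχ => by rw [hother χ hχ.1 hχ.2, mul_zero]]
  have hsumd : (ξ : H → ℂ) 1 * (D ξ : ℂ) + (η : H → ℂ) 1 * (D η : ℂ) = 0 := by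
    have h0 : ∑ χ : IrrCharacter H, (χ : H → ℂ) 1 * (D χ : ℂ) = 0 := by
      rw [← degree_diff (p := p) W.order j k]
      exact Finset.sum_congr rfl fun χ _ => by simp [hDdef]
    rw [← h0, Fintype.sum_eq_add ξ η hηξ.symm fun χ hχ => by
      rw [hother χ hχ.1 hχ.2]; simp]
  have h11 : ∀ χ, D χ ≠ 0 → D χ = 1 ∨ D χ = -1 := fun χ h =>
    sq_eq_one_iff.1 (hone χ h)
  have hopp : D η = -D ξ ∧ w η = w ξ := by
    rcases h11 ξ hξ0 with e | e <;> rcases h11 η hη0' with e' | e' <;> rw [e, e'] at hsumw ⊢ <;>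
      constructor <;> omega
  refine ⟨η, hηξ, hopp.2, ?_, h11 ξ hξ0, hopp.1, fun χ h1 h2' => ?_⟩
  · rw [hopp.1] at hsumd
    push_cast at hsumd
    have : ((ξ : H → ℂ) 1 - (η : H → ℂ) 1) * (D ξ : ℂ) = 0 := by rw [← hsumd]; ring
    exact (sub_eq_zero.1 ((mul_eq_zero.1 this).resolve_right (Int.cast_ne_zero.2 hξ0))).symm
  · have := hother χ h1 h2'
    simp only [hDdef] at this
    omega

theorem classify (W : Weights p x w) :
    (∃ χ₁, χ₁ ≠ trivIrr H ∧ w χ₁ = 1 ∧ ∀ χ, w χ ≠ 0 → χ = trivIrr H ∨ χ = χ₁) ∨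
    (∃ χ₁ χ₂, χ₁ ≠ trivIrr H ∧ χ₂ ≠ trivIrr H ∧ χ₁ ≠ χ₂ ∧ w χ₁ = 1 ∧ w χ₂ = 1 ∧
      (χ₁ : H → ℂ) 1 = (p : ℂ) - 1 ∧ (χ₂ : H → ℂ) 1 = p ∧
      ∀ χ, w χ ≠ 0 → χ = trivIrr H ∨ χ = χ₁ ∨ χ = χ₂) ∨
    (∃ ξ, ξ ≠ trivIrr H ∧ w ξ ≠ 0 ∧ dm p x ξ 0 = 0 ∧
      (ξ : H → ℂ) 1 = ((mults p x).card : ℂ)) := by
  classical
  have hx := W.order
  set d : IrrCharacter H → ZMod p → ℕ := fun χ j => dm p x χ j with hd
  -- one constituent other than the trivial one has a fixed vector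
  have h0 : ∑ χ ∈ Finset.univ.erase (trivIrr H), w χ * d χ 0 = 1 := by
    have h : w (trivIrr H) * d (trivIrr H) 0 +
        ∑ χ ∈ Finset.univ.erase (trivIrr H), w χ * d χ 0 = 2 :=
      (Finset.add_sum_erase Finset.univ (fun χ => w χ * d χ 0)
        (Finset.mem_univ (trivIrr H))).trans (W.total 0)
    rw [W.triv, show d (trivIrr H) 0 = 1 by rw [hd]; exact (dm_triv hx 0).trans (if_pos rfl)] at h
    omega
  obtain ⟨χ₁, hχ₁, hχ₁0⟩ := Finset.exists_ne_zero_of_sum_ne_zero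
    (show ∑ χ ∈ Finset.univ.erase (trivIrr H), w χ * d χ 0 ≠ 0 by rw [h0]; norm_num)
  have hχ₁t : χ₁ ≠ trivIrr H := Finset.ne_of_mem_erase hχ₁
  have h01 := Finset.add_sum_erase _ (fun χ => w χ * d χ 0) hχ₁
  rw [h0] at h01
  have h1' : w χ₁ * d χ₁ 0 = 1 := by
    have : 1 ≤ w χ₁ * d χ₁ 0 := Nat.one_le_iff_ne_zero.2 hχ₁0
    omega
  obtain ⟨hw1, hd10⟩ := mul_eq_one.mp h1'
  have hzero : ∀ χ, χ ≠ trivIrr H → χ ≠ χ₁ → w χ ≠ 0 → d χ 0 = 0 := by
    intro χ ht h1 hw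
    have hmem : χ ∈ (Finset.univ.erase (trivIrr H)).erase χ₁ := Finset.mem_erase.2
      ⟨h1, Finset.mem_erase.2 ⟨ht, Finset.mem_univ _⟩⟩
    have h := Finset.single_le_sum (f := fun χ => w χ * d χ 0) (fun i _ => Nat.zero_le _) hmem
    have : w χ * d χ 0 = 0 := by (try simp only at h h01); omega
    exact (Nat.mul_eq_zero.1 this).resolve_left hw
  -- `χ₁` is constant on non-zero residues
  have hconst : ∀ j k : ZMod p, j ≠ 0 → k ≠ 0 → d χ₁ j = d χ₁ k := by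
    intro j k hj hk
    by_contra hne
    obtain ⟨η, hη, hwη, hdeg, h11, hopp, -⟩ := W.partner (by omega) hj hk hne
    have hηt : η ≠ trivIrr H := by
      rintro rfl
      rw [dm_triv hx, dm_triv hx, if_neg hj, if_neg hk] at hopp
      simp only [hd] at hne
      omega
    rw [degree_eq hx η, degree_eq hx χ₁] at hdeg
    have hdeg' : dm p x η 0 + ∑ j ∈ (Finset.univ : Finset (ZMod p)).erase 0, dm p x η j =
        dm p x χ₁ 0 + ∑ j ∈ (Finset.univ : Finset (ZMod p)).erase 0, dm p x χ₁ j := by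
      exact_mod_cast hdeg
    rw [show dm p x η 0 = 0 from hzero η hηt hη (by omega), show dm p x χ₁ 0 = 1 from hd10,
      zero_add] at hdeg'
    have e1 := dvd_sum_invariant hx (fun j => dm p x η j) (fun m hm l => dm_mul hx η hm l)
    have e2 := dvd_sum_invariant hx (fun j => dm p x χ₁ j) (fun m hm l => dm_mul hx χ₁ hm l)
    (try simp only at e1 e2)
    rw [hdeg'] at e1
    have := Nat.eq_one_of_dvd_one ((Nat.dvd_add_left e2).1 e1)
    exact absurd this W.mults.ne'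
  have hdeg1 : ∀ χ : IrrCharacter H, ∀ c : ℕ, (∀ j : ZMod p, j ≠ 0 → d χ j = c) →
      (χ : H → ℂ) 1 = ((d χ 0 + (p - 1) * c : ℕ) : ℂ) := by
    intro χ c hc
    rw [degree_eq hx χ, Finset.sum_congr rfl fun j hj => hc j (Finset.ne_of_mem_erase hj),
      Finset.sum_const, Finset.card_erase_of_mem (Finset.mem_univ _), Finset.card_univ, ZMod.card,
      smul_eq_mul]
  have hpos : ∀ χ : IrrCharacter H, (χ : H → ℂ) 1 ≠ 0 := fun χ => by
    obtain ⟨n, hn, e⟩ := IsIrrCharacter.exists_apply_one χ.2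
    rw [e]; exact_mod_cast hn.ne'
  set c := d χ₁ 1 with hc
  have hcd : ∀ j : ZMod p, j ≠ 0 → d χ₁ j = c := fun j hj => hconst j 1 hj one_ne_zero
  have hc0 : c ≠ 0 := by
    intro h
    refine W.nonlinear χ₁ hχ₁t (by omega) ?_
    rw [hdeg1 χ₁ c hcd, h, hd10]
    norm_num
  have htot : ∀ j : ZMod p, j ≠ 0 →
      c + ∑ χ ∈ (Finset.univ.erase (trivIrr H)).erase χ₁, w χ * d χ j = 2 := by
    intro j hj
    have h : w (trivIrr H) * d (trivIrr H) j +
        ∑ χ ∈ Finset.univ.erase (trivIrr H), w χ * d χ j = 2 :=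
      (Finset.add_sum_erase Finset.univ (fun χ => w χ * d χ j)
        (Finset.mem_univ (trivIrr H))).trans (W.total j)
    rw [← Finset.add_sum_erase _ (fun χ => w χ * d χ j) hχ₁, hw1, one_mul, hcd j hj,
      show d (trivIrr H) j = 0 by rw [hd]; exact (dm_triv hx j).trans (if_neg hj), mul_zero,
      zero_add] at h
    exact h
  have hval : ∀ χ, χ ≠ trivIrr H → χ ≠ χ₁ → ∀ j : ZMod p, j ≠ 0 → c + w χ * d χ j ≤ 2 := by
    intro χ ht h1 j hj
    have := Finset.single_le_sum (f := fun χ => w χ * d χ j) (fun i _ => Nat.zero_le _)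
      (show χ ∈ (Finset.univ.erase (trivIrr H)).erase χ₁ from Finset.mem_erase.2
        ⟨h1, Finset.mem_erase.2 ⟨ht, Finset.mem_univ _⟩⟩)
    have := htot j hj
    (try simp only at *)
    omega
  -- other constituents have a non-zero multiplicity somewhere
  have hsome : ∀ χ, χ ≠ trivIrr H → χ ≠ χ₁ → w χ ≠ 0 → ∃ j : ZMod p, j ≠ 0 ∧ d χ j ≠ 0 := by
    intro χ ht h1 hw
    by_contra h
    push Not at h
    refine hpos χ ?_
    rw [hdeg1 χ 0 h, hzero χ ht h1 hw]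
    simp
  rcases Nat.lt_or_ge 1 c with hc2 | hc1
  · refine Or.inl ⟨χ₁, hχ₁t, hw1, fun χ hw => ?_⟩
    by_contra h
    push Not at h
    obtain ⟨j, hj, hdj⟩ := hsome χ h.1 h.2 hw
    have := hval χ h.1 h.2 j hj
    have : 0 < w χ * d χ j := Nat.mul_pos (Nat.pos_of_ne_zero hw) (Nat.pos_of_ne_zero hdj)
    omega
  have hc1' : c = 1 := by omega
  -- the other constituents are disjoint indicators
  have hind : ∀ χ, χ ≠ trivIrr H → χ ≠ χ₁ → w χ ≠ 0 → ∀ j : ZMod p, j ≠ 0 → d χ j ≠ 0 →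
      d χ j = 1 ∧ w χ = 1 ∧ ∀ ψ, ψ ≠ trivIrr H → ψ ≠ χ₁ → ψ ≠ χ → w ψ ≠ 0 → d ψ j = 0 := by
    intro χ ht h1 hw j hj hdj
    have hv := hval χ ht h1 j hj
    have hwd : w χ * d χ j = 1 := by
      have : 0 < w χ * d χ j := Nat.mul_pos (Nat.pos_of_ne_zero hw) (Nat.pos_of_ne_zero hdj)
      omega
    refine ⟨(mul_eq_one.mp hwd).2, (mul_eq_one.mp hwd).1, fun ψ ht' h1' hne hw' => ?_⟩
    have hmemχ : χ ∈ (Finset.univ.erase (trivIrr H)).erase χ₁ := Finset.mem_erase.2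
      ⟨h1, Finset.mem_erase.2 ⟨ht, Finset.mem_univ _⟩⟩
    have hmemψ : ψ ∈ ((Finset.univ.erase (trivIrr H)).erase χ₁).erase χ := Finset.mem_erase.2
      ⟨hne, Finset.mem_erase.2 ⟨h1', Finset.mem_erase.2 ⟨ht', Finset.mem_univ _⟩⟩⟩
    have := htot j hj
    rw [← Finset.add_sum_erase _ (fun χ => w χ * d χ j) hmemχ] at this
    have h' := Finset.single_le_sum (f := fun χ => w χ * d χ j) (fun i _ => Nat.zero_le _) hmemψ
    have : w ψ * d ψ j = 0 := by (try simp only at *); omega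
    exact (Nat.mul_eq_zero.1 this).resolve_left hw'
  -- one of them contains the residue `1`
  obtain ⟨ξ, hξm, hξ0⟩ := Finset.exists_ne_zero_of_sum_ne_zero
    (show ∑ χ ∈ (Finset.univ.erase (trivIrr H)).erase χ₁, w χ * d χ 1 ≠ 0 by
      have := htot 1 one_ne_zero; omega)
  obtain ⟨hξ1, hξm'⟩ := Finset.mem_erase.1 hξm
  have hξt : ξ ≠ trivIrr H := Finset.ne_of_mem_erase hξm'
  obtain ⟨hwξ, hξd⟩ := mul_ne_zero_iff.1 hξ0
  by_cases hall : ∀ j : ZMod p, j ≠ 0 → d ξ j ≠ 0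
  · refine Or.inr (Or.inl ⟨ξ, χ₁, hξt, hχ₁t, hξ1,
      (hind ξ hξt hξ1 hwξ 1 one_ne_zero hξd).2.1, hw1, ?_, ?_, fun χ hw => ?_⟩)
    · rw [hdeg1 ξ 1 (fun j hj => (hind ξ hξt hξ1 hwξ j hj (hall j hj)).1),
        hzero ξ hξt hξ1 hwξ, zero_add, mul_one, Nat.cast_sub hp.out.one_le, Nat.cast_one]
    · rw [hdeg1 χ₁ c hcd, hd10, hc1', mul_one, Nat.add_sub_cancel' hp.out.one_le]
    · by_contra h
      push Not at h
      obtain ⟨j, hj, hdj⟩ := hsome χ h.1 h.2.2 hw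
      exact hdj ((hind ξ hξt hξ1 hwξ j hj (hall j hj)).2.2 χ h.1 h.2.2 h.2.1 hw)
  push Not at hall
  obtain ⟨k₁, hk₁, hξk⟩ := hall
  -- a constituent whose non-zero residues form one orbit
  have horbit : ∀ χ, χ ≠ trivIrr H → χ ≠ χ₁ → w χ ≠ 0 → ∀ j₀ : ZMod p, j₀ ≠ 0 → d χ j₀ ≠ 0 →
      (∀ j : ZMod p, j ≠ 0 → d χ j ≠ 0 → Rel p x j₀ j) →
      (χ : H → ℂ) 1 = ((mults p x).card : ℂ) := by
    intro χ ht h1 hw j₀ hj₀ hdj₀ honly
    rw [degree_eq hx χ, show dm p x χ 0 = 0 from hzero χ ht h1 hw, zero_add]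
    have himg : ∑ j ∈ (Finset.univ : Finset (ZMod p)).erase 0, dm p x χ j =
        ∑ j ∈ (mults p x).image (fun m => m * j₀), dm p x χ j := by
      refine (Finset.sum_subset (fun j hj => ?_) fun j hj hnot => ?_).symm
      · obtain ⟨m, hm, rfl⟩ := Finset.mem_image.1 hj
        exact Finset.mem_erase.2 ⟨mul_ne_zero (ne_zero_of_mem_mults hx hm) hj₀, Finset.mem_univ _⟩
      · by_contra hne
        obtain ⟨m, hm, hmj⟩ := honly j (Finset.ne_of_mem_erase hj) hne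
        exact hnot (Finset.mem_image.2 ⟨m, hm, hmj⟩)
    rw [himg, Finset.sum_image fun a _ b _ h => mul_right_cancel₀ hj₀ h,
      Finset.sum_congr rfl fun m hm => (dm_mul hx χ hm j₀).trans
        (hind χ ht h1 hw j₀ hj₀ hdj₀).1, Finset.sum_const, smul_eq_mul, mul_one]
  refine Or.inr (Or.inr ?_)
  by_cases hS : ∀ j : ZMod p, j ≠ 0 → d ξ j ≠ 0 → Rel p x 1 j
  · exact ⟨ξ, hξt, hwξ, hzero ξ hξt hξ1 hwξ, horbit ξ hξt hξ1 hwξ 1 one_ne_zero hξd hS⟩
  push Not at hS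
  obtain ⟨j₂, hj₂, hξj₂, hrel⟩ := hS
  have hne : d ξ 1 ≠ d ξ k₁ := by rw [hξk]; exact hξd
  obtain ⟨η, hη, hwη, -, -, hopp, hoth⟩ := W.partner hwξ one_ne_zero hk₁ hne
  have hwη0 : w η ≠ 0 := by omega
  have hv1 : d ξ 1 = 1 := (hind ξ hξt hξ1 hwξ 1 one_ne_zero hξd).1
  have hηk : d η k₁ ≠ 0 := by simp only [hd] at *; omega
  have hηt : η ≠ trivIrr H := W.ne_triv hk₁ hηk
  have hη1 : η ≠ χ₁ := by
    rintro rfl
    have e1 := hcd 1 one_ne_zero
    have e2 := hcd k₁ hk₁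
    simp only [hd] at *
    omega
  refine ⟨η, hηt, hwη0, hzero η hηt hη1 hwη0, horbit η hηt hη1 hwη0 k₁ hk₁ hηk fun k₂ hk₂ hηk₂ => ?_⟩
  by_contra hrelk
  have hξk₂ : d ξ k₂ = 0 := (hind η hηt hη1 hwη0 k₂ hk₂ hηk₂).2.2 ξ hξt hξ1 (Ne.symm hη) hwξ
  have hηj₂ : d η j₂ = 0 := (hind ξ hξt hξ1 hwξ j₂ hj₂ hξj₂).2.2 η hηt hη1 hη hwη0
  have hη1' : d η 1 = 0 := (hind ξ hξt hξ1 hwξ 1 one_ne_zero hξd).2.2 η hηt hη1 hη hwη0
  have hdot := dot_diff W.order W.cent (j := 1) (k := k₁) (j' := j₂) (k' := k₂) hrel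
    (fun h => hξd ((dm_rel hx ξ h).trans hξk₂))
    (fun h => hξj₂ ((dm_rel hx ξ h).symm.trans hξk))
    hrelk
  rw [Fintype.sum_eq_add ξ η hη.symm fun χ hχ => by rw [hoth χ hχ.1 hχ.2, sub_self, zero_mul]]
    at hdot
  have e3 := (hind ξ hξt hξ1 hwξ j₂ hj₂ hξj₂).1
  have e4 := (hind η hηt hη1 hwη0 k₂ hk₂ hηk₂).1
  have e5 := (hind η hηt hη1 hwη0 k₁ hk₁ hηk).1
  simp only [hd] at *
  rw [hv1, hξk, e3, hξk₂, hη1', e5, hηj₂, e4] at hdot
  norm_num at hdot

end Cfsg.Agent.Lib.Perm.TwoPrimeDegree
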