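import Cfsg.Agent.Lib.Perm.TwoPrimeDegree.Classify
import Cfsg.Agent.Lib.Perm.PermCharacter
import Cfsg.Agent.S0719

/-!
# Primitive groups of degree `2p` in which the element of order `p` preserves orbits

The main case of Wielandt's theorem: the centraliser of `x` is `⟨x⟩` and every element normalising
`⟨x⟩` fixes both of its orbits.
-/

set_option autoImplicit false
set_option linter.unusedSectionVars false
set_option linter.style.haveILetI false

namespace Cfsg.Agent.Lib.Perm.TwoPrimeDegree

open Cfsg Cfsg.Agent.Lib.Characters Module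
open scoped ComplexConjugate

universe u v

variable {H : Type u} [Group H] [Fintype H] {Ω : Type v} [Fintype Ω] [MulAction H Ω]
  {p : ℕ} [hp : Fact p.Prime] {x : H}

/-- The hypotheses on `x`. -/
structure Setting (p : ℕ) [Fact p.Prime] (Ω : Type v) [Fintype Ω] [MulAction H Ω] (x : H) :
    Prop where
  order : orderOf x = p
  card : Fintype.card Ω = 2 * p
  cent : ∀ g : H, g * x = x * g → ∃ i : ZMod p, g = pw x i
  fpf : ∀ i : ZMod p, i ≠ 0 → ∀ a : Ω, pw x i • a ≠ a
  preserves : ∀ (g : H) (m : ZMod p), g * x * g⁻¹ = pw x m →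
    ∀ a : Ω, ∃ j : ZMod p, g • a = pw x j • a

variable (S : Setting p Ω x)

include S in
theorem Setting.orbit_inj (a : Ω) : Function.Injective fun i : ZMod p => pw x i • a := by
  intro i j h
  by_contra hne
  refine S.fpf (i - j) (sub_ne_zero.2 hne) (pw x j • a) ?_
  rw [smul_smul, ← pw_add S.order, sub_add_cancel]
  exact h

include S in
theorem Setting.exists_two (a : Ω) :
    ∃ b : Ω, (∀ i : ZMod p, pw x i • a ≠ b) ∧
      ∀ c : Ω, (∃ i : ZMod p, c = pw x i • a) ∨ ∃ i : ZMod p, c = pw x i • b := by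
  classical
  set A := (Finset.univ : Finset (ZMod p)).image fun i => pw x i • a with hA
  have hAc : A.card = p := by
    rw [hA, Finset.card_image_of_injective _ (S.orbit_inj a), Finset.card_univ, ZMod.card]
  obtain ⟨b, hb⟩ : ∃ b, b ∉ A := by
    by_contra h
    push Not at h
    have : Fintype.card Ω = p := by
      rw [← Finset.card_univ, ← hAc, Finset.eq_univ_of_forall h]
    have := S.card
    have := hp.out.two_le
    omega
  have hb' : ∀ i : ZMod p, pw x i • a ≠ b := fun i h =>
    hb (Finset.mem_image.2 ⟨i, Finset.mem_univ _, h⟩)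
  refine ⟨b, hb', fun c => ?_⟩
  set B := (Finset.univ : Finset (ZMod p)).image fun i => pw x i • b with hB
  have hBc : B.card = p := by
    rw [hB, Finset.card_image_of_injective _ (S.orbit_inj b), Finset.card_univ, ZMod.card]
  have hdis : Disjoint A B := by
    rw [Finset.disjoint_left]
    intro d hd1 hd2
    obtain ⟨i, -, rfl⟩ := Finset.mem_image.1 hd1
    obtain ⟨j, -, hj⟩ := Finset.mem_image.1 hd2
    refine hb' (i - j) ?_
    rw [← smul_left_cancel_iff (pw x j), smul_smul, ← pw_add S.order, add_sub_cancel, hj]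
  have hu : A ∪ B = Finset.univ := by
    refine Finset.eq_univ_of_card _ ?_
    rw [Finset.card_union_of_disjoint hdis, hAc, hBc, S.card]
    ring
  have hc : c ∈ A ∪ B := by rw [hu]; exact Finset.mem_univ c
  rcases Finset.mem_union.1 hc with h | h
  · obtain ⟨i, -, hi⟩ := Finset.mem_image.1 h
    exact Or.inl ⟨i, hi.symm⟩
  · obtain ⟨i, -, hi⟩ := Finset.mem_image.1 h
    exact Or.inr ⟨i, hi.symm⟩

variable [FaithfulSMul H Ω] [MulAction.IsPreprimitive H Ω]

include S in
theorem Setting.two_mul_dvd (a : Ω) :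
    Nat.card H = 2 * p * Nat.card (MulAction.stabilizer H a) := by
  rw [← (MulAction.stabilizer H a).index_mul_card, MulAction.index_stabilizer_of_transitive,
    Nat.card_eq_fintype_card (α := Ω), S.card]

include S in
theorem Setting.not_zpowers : (Subgroup.zpowers x : Subgroup H) ≠ ⊤ := by
  intro h
  obtain ⟨a⟩ : Nonempty Ω := Fintype.card_pos_iff.1 (by rw [S.card]; have := hp.out.pos; omega)
  have h1 := S.two_mul_dvd a
  rw [← Subgroup.card_top (G := H), ← h, Nat.card_zpowers, S.order] at h1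
  have h2 : 2 * p ≤ p := by
    calc 2 * p ≤ 2 * p * Nat.card (MulAction.stabilizer H a) := Nat.le_mul_of_pos_right _ Nat.card_pos
      _ = p := h1.symm
  have := hp.out.pos
  omega

include S in
theorem Setting.coatom (a : Ω) : IsCoatom (MulAction.stabilizer H a) := by
  haveI : Nontrivial Ω := Fintype.one_lt_card_iff_nontrivial.1 (by
    rw [S.card]; have := hp.out.two_le; omega)
  exact (MulAction.isCoatom_stabilizer_iff_preprimitive (G := H) a).2 inferInstance

include S in
theorem Setting.stabilizer_sup (a : Ω) :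
    MulAction.stabilizer H a ⊔ Subgroup.zpowers x = ⊤ := by
  refine (S.coatom a).2 _ (lt_of_le_of_ne le_sup_left fun h => ?_)
  have hxa : x ∈ MulAction.stabilizer H a := by
    rw [h]; exact Subgroup.mem_sup_right (Subgroup.mem_zpowers x)
  refine S.fpf 1 one_ne_zero a ?_
  rw [pw_one]; exact hxa

include S in
theorem Setting.one_lt_card_mults : 1 < (mults p x).card := by
  classical
  by_contra hle
  have hM : ∀ m ∈ mults p x, m = (1 : ZMod p) := fun m hm =>
    Finset.card_le_one.1 (by omega) m hm 1 one_mem_mults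
  have hP : IsPGroup p (Subgroup.zpowers x) :=
    IsPGroup.of_card (n := 1) (by rw [Nat.card_zpowers, S.order, pow_one])
  let P : Sylow p H := ⟨Subgroup.zpowers x, hP, fun {Q} hQ hle' => by
    refine le_antisymm (fun q hq => ?_) hle'
    have hxQ : x ∈ Q := hle' (Subgroup.mem_zpowers x)
    haveI : Nontrivial Q := ⟨⟨⟨x, hxQ⟩, 1, fun h => by
      have : x = 1 := congrArg Subtype.val h
      rw [← orderOf_eq_one_iff, S.order] at this
      exact hp.out.one_lt.ne' this⟩⟩
    haveI := hQ.center_nontrivial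
    obtain ⟨⟨z, hz⟩, hz1⟩ := exists_ne (1 : Subgroup.center Q)
    have hzc : ∀ y : Q, y * z = z * y := Subgroup.mem_center_iff.1 hz
    obtain ⟨i, hi⟩ := S.cent z (congrArg Subtype.val (hzc ⟨x, hxQ⟩)).symm
    have hi0 : i ≠ 0 := by
      rintro rfl
      rw [pw_zero] at hi
      exact hz1 (Subtype.ext (Subtype.ext hi))
    have hxi : x = pw x i ^ (i⁻¹).val := by
      rw [pw, ← pow_mul, ← pw_natCast S.order, Nat.cast_mul, ZMod.natCast_zmod_val,
        ZMod.natCast_zmod_val, mul_inv_cancel₀ hi0, pw_one]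
    have hqz : Commute q (z : H) := congrArg Subtype.val (hzc ⟨q, hq⟩)
    rw [hi] at hqz
    have hqx := (hqz.pow_right (i⁻¹).val).eq
    rw [← hxi] at hqx
    obtain ⟨j, hj⟩ := S.cent q hqx
    exact hj ▸ Subgroup.pow_mem _ (Subgroup.mem_zpowers x) _⟩
  have hNC : Subgroup.normalizer (P : Set H) ≤ Subgroup.centralizer (P : Set H) := by
    intro g hg
    have hgx : g * x * g⁻¹ ∈ Subgroup.zpowers x :=
      (Subgroup.mem_normalizer_iff.1 hg x).1 (Subgroup.mem_zpowers x)
    obtain ⟨k, hk⟩ := Subgroup.mem_zpowers_iff.1 hgx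
    have hk' : g * x * g⁻¹ = pw x (k : ZMod p) := by
      rw [← hk, pw, ← zpow_natCast, ZMod.val_intCast, ← S.order, zpow_mod_orderOf]
    have := hM _ (mem_mults.2 ⟨g, hk'⟩)
    rw [this, pw_one, mul_inv_eq_iff_eq_mul] at hk'
    rw [Subgroup.mem_centralizer_iff]
    intro y hy
    obtain ⟨l, rfl⟩ := Subgroup.mem_zpowers_iff.1 hy
    exact ((Commute.zpow_right (a := g) (b := x) hk' l)).eq.symm
  set K := (MonoidHom.transferSylow P hNC).ker with hK
  have hcompl := MonoidHom.ker_transferSylow_isComplement' P hNC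
  have hndvd : ¬ p ∣ Nat.card K := MonoidHom.not_dvd_card_ker_transferSylow P hNC
  have hKbot : K ≠ ⊥ := by
    intro h
    refine S.not_zpowers (Subgroup.eq_top_of_card_eq _ ?_)
    have := hcompl.card_mul
    rw [← hK, h, Subgroup.card_bot, one_mul] at this
    exact this
  obtain ⟨a⟩ : Nonempty Ω := Fintype.card_pos_iff.1 (by rw [S.card]; have := hp.out.pos; omega)
  have hfix : MulAction.fixedPoints K Ω ≠ Set.univ := by
    intro h
    refine hKbot ((Subgroup.eq_bot_iff_forall _).2 fun g hg => ?_)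
    refine FaithfulSMul.eq_of_smul_eq_smul (α := Ω) fun c => ?_
    have hc : c ∈ MulAction.fixedPoints K Ω := by rw [h]; exact Set.mem_univ c
    rw [one_smul]
    exact hc ⟨g, hg⟩
  haveI : K.Normal := MonoidHom.normal_ker _
  haveI := MulAction.IsQuasiPreprimitive.isPretransitive_of_normal (G := H) (X := Ω) (N := K) hfix
  apply hndvd
  rw [← (MulAction.stabilizer K a).index_mul_card, MulAction.index_stabilizer_of_transitive,
    Nat.card_eq_fintype_card (α := Ω), S.card]
  exact dvd_mul_of_dvd_left (dvd_mul_left p 2) _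

section
variable [Fintype (IrrCharacter H)]

local notation "wt" => PermCharacter.mult (G := H) (Ω := Ω)

include S in
theorem Setting.total (j : ZMod p) :
    ∑ χ : IrrCharacter H, wt χ * dm p x χ j = 2 := by
  classical
  have hdec := PermCharacter.decomp (G := H) (Ω := Ω)
  have h : (p : ℂ) * ((∑ χ : IrrCharacter H, wt χ * dm p x χ j : ℕ) : ℂ) = (p : ℂ) * 2 := by
    rw [Nat.cast_sum, Finset.mul_sum]
    simp only [Nat.cast_mul, mul_left_comm (p : ℂ), ← dm_spec S.order, Finset.mul_sum]
    rw [Finset.sum_comm, Finset.sum_eq_single (0 : ZMod p)]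
    · have h1 := congrFun hdec (pw x (0 : ZMod p))
      simp only [Finset.sum_apply, Pi.smul_apply, smul_eq_mul] at h1
      simp only [zero_mul, neg_zero, AddChar.map_zero_eq_one, mul_one]
      rw [← h1, pw_zero, MulAction.fixedBy_one_eq_univ, Nat.card_univ, Nat.card_eq_fintype_card,
        S.card]
      push_cast
      ring
    · intro i _ hi
      have h1 := congrFun hdec (pw x i)
      simp only [Finset.sum_apply, Pi.smul_apply, smul_eq_mul] at h1
      simp only [← mul_assoc]
      rw [← Finset.sum_mul, ← h1]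
      have : MulAction.fixedBy Ω (pw x i) = ∅ :=
        Set.eq_empty_iff_forall_notMem.2 fun c hc => S.fpf i hi c hc
      rw [this]
      simp
    · intro h
      exact absurd (Finset.mem_univ _) h
  exact_mod_cast mul_left_cancel₀ (Nat.cast_ne_zero.2 hp.out.ne_zero) h

open scoped Classical in
theorem sum_stabilizer (χ : IrrCharacter H) (a : Ω) :
    ∑ g : MulAction.stabilizer H a, (χ : H → ℂ) (g : H) =
      (Nat.card (MulAction.stabilizer H a) : ℂ) * (wt χ : ℂ) := by
  classical
  have h := PermCharacter.classInner_mult (Ω := Ω) χ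
  rw [classInner_eq_sum_inv (irr_isCharacter χ)] at h
  have e : ∀ g : H, (Nat.card (MulAction.fixedBy Ω g) : ℂ) * (χ : H → ℂ) g⁻¹ =
      ∑ c : Ω, if g • c = c then (χ : H → ℂ) g⁻¹ else 0 := by
    intro g
    rw [Nat.card_eq_fintype_card, ← Finset.sum_filter, Finset.sum_const, nsmul_eq_mul]
    congr 2
    exact (Fintype.card_ofFinset _ _).trans (by congr 1) |>.trans rfl
  have e2 : ∀ c : Ω, (∑ g : H, if g • c = c then (χ : H → ℂ) g⁻¹ else 0) =
      ∑ g : MulAction.stabilizer H a, (χ : H → ℂ) (g : H) := by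
    intro c
    obtain ⟨k, rfl⟩ := MulAction.exists_smul_eq H a c
    rw [← Finset.sum_filter]
    refine Finset.sum_bij' (fun g hg => ⟨k⁻¹ * g⁻¹ * k, ?_⟩) (fun g _ => k * (g : H)⁻¹ * k⁻¹)
      (fun g hg => Finset.mem_univ _) (fun g _ => ?_) (fun g hg => ?_) (fun g _ => ?_)
      (fun g hg => ?_)
    · rw [MulAction.mem_stabilizer_iff, mul_smul, mul_smul, inv_smul_eq_iff, inv_smul_eq_iff]
      exact (Finset.mem_filter.1 hg).2.symm
    · refine Finset.mem_filter.2 ⟨Finset.mem_univ _, ?_⟩
      rw [mul_smul, mul_smul, inv_smul_smul]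
      congr 1
      rw [inv_smul_eq_iff]
      exact (g.2).symm
    · simp [mul_assoc]
    · exact Subtype.ext (by simp [mul_assoc])
    · show _ = (χ : H → ℂ) (k⁻¹ * g⁻¹ * k)
      rw [← IsCharacter.conj_apply (irr_isCharacter χ) g⁻¹ k⁻¹, inv_inv]
  rw [Finset.sum_congr rfl fun g _ => e g, Finset.sum_comm,
    Finset.sum_congr rfl fun c _ => e2 c, Finset.sum_const, Finset.card_univ, nsmul_eq_mul] at h
  have hH : Nat.card H = Fintype.card Ω * Nat.card (MulAction.stabilizer H a) := by
    rw [← (MulAction.stabilizer H a).index_mul_card, MulAction.index_stabilizer_of_transitive,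
      Nat.card_eq_fintype_card (α := Ω)]
  have hΩ : (Fintype.card Ω : ℂ) ≠ 0 := by
    haveI : Nonempty Ω := ⟨a⟩
    exact_mod_cast Fintype.card_ne_zero
  rw [hH] at h
  have hs : (Nat.card (MulAction.stabilizer H a) : ℂ) ≠ 0 := by exact_mod_cast Nat.card_pos.ne'
  push_cast at h
  field_simp at h
  linear_combination h

/-- Restriction to a subgroup. -/
abbrev res {n : ℕ} (ρ : Representation ℂ H (Fin n → ℂ)) (K : Subgroup H) :
    Representation ℂ K (Fin n → ℂ) := MonoidHom.comp ρ K.subtype

/-- The vectors fixed by a subgroup. -/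
theorem finrank_fixed {n : ℕ} (ρ : Representation ℂ H (Fin n → ℂ)) (K : Subgroup H) [Fintype K] :
    (finrank ℂ (res ρ K).invariants : ℂ) =
      (Nat.card K : ℂ)⁻¹ * ∑ g : K, ρ.character (g : H) := by
  rw [← Representation.card_inv_mul_sum_char_eq_finrank]
  rfl

open scoped Classical in
theorem finrank_fixed_stabilizer {n : ℕ} (ρ : Representation ℂ H (Fin n → ℂ)) (χ : IrrCharacter H)
    (hρ : ρ.character = (χ : H → ℂ)) (a : Ω) :
    finrank ℂ (res ρ (MulAction.stabilizer H a)).invariants = wt χ := by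
  have h := finrank_fixed ρ (MulAction.stabilizer H a)
  rw [hρ, sum_stabilizer, ← mul_assoc,
    inv_mul_cancel₀ (Nat.cast_ne_zero.2 Nat.card_pos.ne'), one_mul] at h
  exact_mod_cast h

theorem finrank_twist_zero (hx : orderOf x = p) {n : ℕ} (ρ : Representation ℂ H (Fin n → ℂ))
    (χ : IrrCharacter H) (hρ : ρ.character = (χ : H → ℂ)) :
    finrank ℂ (twist x hx ρ 0).invariants = dm p x χ 0 := by
  have h := Representation.card_inv_mul_sum_char_eq_finrank (twist x hx ρ 0)
  have hs : ∑ g : Multiplicative (ZMod p), (twist x hx ρ 0).character g =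
      ∑ i : ZMod p, (χ : H → ℂ) (pw x i) * ZMod.stdAddChar (-(i * (0 : ZMod p))) := by
    refine (Fintype.sum_equiv Multiplicative.ofAdd _ _ fun i => ?_).symm
    rw [← hρ]
    simp [Representation.character, twist]
  rw [hs, dm_spec hx, Nat.card_eq_fintype_card, Fintype.card_multiplicative, ZMod.card, ← mul_assoc,
    inv_mul_cancel₀ (Nat.cast_ne_zero.2 hp.out.ne_zero), one_mul] at h
  exact_mod_cast h.symm

/-- The elements fixing a vector. -/
def fixer {n : ℕ} (ρ : Representation ℂ H (Fin n → ℂ)) (w : Fin n → ℂ) : Subgroup H where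
  carrier := {g | ρ g w = w}
  one_mem' := by simp
  mul_mem' {g h} hg hh := by
    show ρ (g * h) w = w
    rw [map_mul, Module.End.mul_apply, (hh : ρ h w = w), (hg : ρ g w = w)]
  inv_mem' {g} hg := by
    show ρ g⁻¹ w = w
    conv_lhs => rw [← (hg : ρ g w = w)]
    rw [← Module.End.mul_apply, ← map_mul, inv_mul_cancel, map_one, Module.End.one_apply]

theorem eq_triv_of_fixed {n : ℕ} (ρ : Representation ℂ H (Fin n → ℂ)) [ρ.IsIrreducible]
    (χ : IrrCharacter H) (hρ : ρ.character = (χ : H → ℂ)) {w : Fin n → ℂ} (hw : w ≠ 0)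
    (htop : fixer ρ w = ⊤) : χ = trivIrr H := by
  have hfix : ∀ g : H, ρ g w = w := fun g => by
    have : g ∈ fixer ρ w := htop ▸ Subgroup.mem_top g
    exact this
  have hS := ((isIrreducible_iff_forall ρ).1 inferInstance).2 (Submodule.span ℂ {w}) fun g y hy => by
    obtain ⟨c, rfl⟩ := Submodule.mem_span_singleton.1 hy
    rw [map_smul, hfix g]
    exact Submodule.mem_span_singleton.2 ⟨c, rfl⟩
  have htop' : Submodule.span ℂ {w} = ⊤ := hS.resolve_left fun h => hw (by simpa using h)
  have h1 : finrank ℂ (Fin n → ℂ) = 1 := by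
    rw [← finrank_top, ← htop', finrank_span_singleton hw]
  refine Subtype.ext (funext fun g => ?_)
  rw [← hρ]
  show LinearMap.trace ℂ _ (ρ g) = 1
  have hid : ρ g = LinearMap.id := by
    refine LinearMap.ext fun y => ?_
    obtain ⟨c, rfl⟩ := Submodule.mem_span_singleton.1 (htop' ▸ Submodule.mem_top : y ∈ Submodule.span ℂ {w})
    rw [map_smul, hfix g, LinearMap.id_apply]
  rw [hid, ← Module.End.one_eq_id, LinearMap.trace_one, h1, Nat.cast_one]

include S in
theorem Setting.nonlinear (χ : IrrCharacter H) (hχ : χ ≠ trivIrr H) (hw : wt χ ≠ 0) :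
    (χ : H → ℂ) 1 ≠ 1 := by
  classical
  intro h1
  obtain ⟨a⟩ : Nonempty Ω := Fintype.card_pos_iff.1 (by rw [S.card]; have := hp.out.pos; omega)
  obtain ⟨n, ρ, hirr, hρ⟩ := χ.2
  haveI := hirr
  have hn : n = 1 := by
    have h := congrFun hρ 1
    rw [Representation.char_one, Module.finrank_fintype_fun_eq_card, Fintype.card_fin, h1] at h
    exact_mod_cast h
  have hd0 : dm p x χ 0 ≠ 0 := by
    intro hd0
    have hsum : ∑ j : ZMod p, dm p x χ j = 1 := by
      have := sum_dm S.order χ
      rw [h1] at this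
      exact_mod_cast this
    obtain ⟨j, -, hj⟩ := Finset.exists_ne_zero_of_sum_ne_zero
      (show ∑ j : ZMod p, dm p x χ j ≠ 0 by rw [hsum]; norm_num)
    have hj0 : j ≠ 0 := fun h => hj (h ▸ hd0)
    obtain ⟨m, hm, hm1⟩ := Finset.exists_mem_ne S.one_lt_card_mults 1
    have h2 := dm_mul S.order χ hm j
    have hne : m * j ≠ j := fun h => hm1 (mul_right_cancel₀ hj0 (h.trans (one_mul j).symm))
    have := Finset.add_sum_erase Finset.univ (fun j => dm p x χ j) (Finset.mem_univ j)
    rw [hsum] at this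
    have h3 := Finset.single_le_sum (f := fun j => dm p x χ j) (fun i _ => Nat.zero_le _)
      (show m * j ∈ Finset.univ.erase j from Finset.mem_erase.2 ⟨hne, Finset.mem_univ _⟩)
    (try simp only at h3 this)
    omega
  subst hn
  have hfull : ∀ W : Submodule ℂ (Fin 1 → ℂ), finrank ℂ W ≠ 0 → W = ⊤ := fun W h => by
    refine Submodule.eq_top_of_finrank_eq (le_antisymm W.finrank_le ?_)
    rw [Module.finrank_fintype_fun_eq_card, Fintype.card_fin]
    omega
  have hA := hfull _ ((finrank_fixed_stabilizer (Ω := Ω) ρ χ hρ a).trans_ne hw)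
  have hX := hfull _ ((finrank_twist_zero S.order ρ χ hρ).trans_ne hd0)
  have hv : (fun _ => 1 : Fin 1 → ℂ) ≠ 0 := fun h => one_ne_zero (congrFun h 0)
  refine hχ (eq_triv_of_fixed ρ χ hρ hv (eq_top_iff.2 ?_))
  rw [← S.stabilizer_sup a, sup_le_iff]
  constructor
  · intro g hg
    have : (fun _ => 1 : Fin 1 → ℂ) ∈ (res ρ (MulAction.stabilizer H a)).invariants := by
      rw [hA]; exact Submodule.mem_top
    exact this ⟨g, hg⟩
  · rw [Subgroup.zpowers_le]
    have : (fun _ => 1 : Fin 1 → ℂ) ∈ (twist x S.order ρ 0).invariants := by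
      rw [hX]; exact Submodule.mem_top
    have h := this (Multiplicative.ofAdd 1)
    simpa [twist, pw_one, fixer] using h

include S in
theorem Setting.weights : Weights p x (fun χ => wt χ) where
  order := S.order
  cent := S.cent
  total := S.total
  triv := by
    haveI : Nonempty Ω := Fintype.card_pos_iff.1 (by rw [S.card]; have := hp.out.pos; omega)
    exact PermCharacter.mult_triv
  nonlinear := S.nonlinear
  mults := S.one_lt_card_mults

include S in
/-- No constituent has degree equal to the number of multipliers and no fixed vector of `x`. -/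
theorem Setting.no_exceptional (χ : IrrCharacter H) (hχ : χ ≠ trivIrr H) (hw : wt χ ≠ 0)
    (hd : dm p x χ 0 = 0) (hdeg : (χ : H → ℂ) 1 = ((mults p x).card : ℂ)) : False := by
  classical
  obtain ⟨a⟩ : Nonempty Ω := Fintype.card_pos_iff.1 (by rw [S.card]; have := hp.out.pos; omega)
  obtain ⟨n, ρ, hirr, hρ⟩ := χ.2
  haveI := hirr
  have hx := S.order
  let Y : Subgroup H :=
    { carrier := {g | g • a = a ∧ ∃ m : ZMod p, g * x * g⁻¹ = pw x m}
      one_mem' := ⟨one_smul _ _, 1, by simp [pw_one]⟩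
      mul_mem' := fun {g h} hg hh => by
        refine ⟨by rw [mul_smul, hh.1, hg.1], ?_⟩
        obtain ⟨m, hm⟩ := hg.2
        obtain ⟨m', hm'⟩ := hh.2
        exact ⟨m * m', by
          rw [show g * h * x * (g * h)⁻¹ = g * (h * x * h⁻¹) * g⁻¹ by group, hm', conj_pw hx hm]⟩
      inv_mem' := fun {g} hg => by
        refine ⟨inv_smul_eq_iff.2 hg.1.symm, ?_⟩
        obtain ⟨m, hm⟩ := hg.2
        have hm0 := ne_zero_of_mem_mults hx (mem_mults.2 ⟨g, hm⟩)
        refine ⟨m⁻¹, ?_⟩
        have h := conj_pw hx hm m⁻¹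
        rw [mul_inv_cancel₀ hm0, pw_one] at h
        conv_lhs => rw [← h]
        group }
  have hY : ∀ y : Y, (y : H) • a = a ∧ ∃ m : ZMod p, (y : H) * x * (y : H)⁻¹ = pw x m :=
    fun y => y.2
  choose μ hμ using fun y : Y => (hY y).2
  have hμ1 : μ 1 = 1 := pw_injective hx ((hμ 1).symm.trans (by simp [pw_one]))
  let f : Y →* ZMod p :=
    { toFun := μ
      map_one' := hμ1
      map_mul' := fun g h => pw_injective hx ((hμ (g * h)).symm.trans (by
        rw [show ((g * h : Y) : H) * x * ((g * h : Y) : H)⁻¹ =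
          (g : H) * ((h : H) * x * (h : H)⁻¹) * (g : H)⁻¹ by
          rw [Subgroup.coe_mul]; group, hμ h, conj_pw hx (hμ g)])) }
  have hker : ∀ y : Y, μ y = 1 → y = 1 := by
    intro y hy
    have h := hμ y
    rw [hy, pw_one, mul_inv_eq_iff_eq_mul] at h
    obtain ⟨i, hi⟩ := S.cent _ h
    refine Subtype.ext ?_
    rw [Subgroup.coe_one, hi]
    by_contra h1
    refine S.fpf i (fun h0 => h1 (by rw [h0, pw_zero])) a ?_
    rw [← hi]; exact (hY y).1
  have hfinj : Function.Injective f := by
    intro g h hgh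
    have h2 : f (g * h⁻¹) = 1 := by
      rw [map_mul, hgh, ← map_mul, mul_inv_cancel, map_one]
    exact mul_inv_eq_one.1 (hker _ h2)
  haveI : IsCyclic Y := isCyclic_of_injective_ringHom f hfinj
  -- `Y` has as many elements as there are multipliers
  have hYcard : Nat.card Y = (mults p x).card := by
    rw [← Fintype.card_coe, ← Nat.card_eq_fintype_card]
    refine Nat.card_eq_of_bijective
      (fun y => (⟨μ y, mem_mults.2 ⟨y, hμ y⟩⟩ : mults p x)) ⟨fun g h e => hfinj
        (congrArg Subtype.val e), ?_⟩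
    rintro ⟨m, hm⟩
    obtain ⟨g, hg⟩ := mem_mults.1 hm
    obtain ⟨j, hj⟩ := S.preserves g m hg a
    have hg' : pw x (-j) * g * x * (pw x (-j) * g)⁻¹ = pw x m := by
      rw [show pw x (-j) * g * x * (pw x (-j) * g)⁻¹ =
        pw x (-j) * (g * x * g⁻¹) * (pw x (-j))⁻¹ by group, hg, ← pw_neg hx, ← pw_add hx,
        ← pw_add hx]
      congr 1; ring
    have hmem : pw x (-j) * g ∈ Y := ⟨by rw [mul_smul, hj, smul_smul, ← pw_add hx, neg_add_cancel,
      pw_zero, one_smul], m, hg'⟩
    exact ⟨⟨_, hmem⟩, Subtype.ext (pw_injective hx ((hμ ⟨_, hmem⟩).symm.trans hg'))⟩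
  -- `Y` fixes a point outside the orbit of `a`
  obtain ⟨b₀, hb₀, -⟩ := S.exists_two a
  obtain ⟨y₀, hy₀⟩ := IsCyclic.exists_generator (α := Y)
  obtain ⟨b, hb, hbY⟩ : ∃ b : Ω, (∀ i : ZMod p, pw x i • a ≠ b) ∧ (y₀ : H) • b = b := by
    by_cases hm1 : μ y₀ = 1
    · exact ⟨b₀, hb₀, by rw [hker y₀ hm1, Subgroup.coe_one, one_smul]⟩
    obtain ⟨c, hc⟩ := S.preserves _ _ (hμ y₀) b₀
    set i := c * (1 - μ y₀)⁻¹ with hi
    refine ⟨pw x i • b₀, fun l hl => ?_, ?_⟩
    · refine hb₀ (l - i) ?_
      rw [← smul_left_cancel_iff (pw x i), smul_smul, ← pw_add hx, add_sub_cancel, hl]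
    · have h := conj_pw hx (hμ y₀) i
      rw [smul_smul, mul_inv_eq_iff_eq_mul.1 h, mul_smul, hc, smul_smul, ← pw_add hx]
      congr 2
      have h0 : (1 : ZMod p) - μ y₀ ≠ 0 := sub_ne_zero.2 (Ne.symm hm1)
      rw [hi]
      field_simp
      ring
  have hYb : ∀ y : Y, (y : H) • b = b := by
    intro y
    obtain ⟨k, rfl⟩ := Subgroup.mem_zpowers_iff.1 (hy₀ y)
    have : (y₀ : H) ∈ MulAction.stabilizer H b := hbY
    rw [Subgroup.coe_zpow]
    exact Subgroup.zpow_mem _ this k
  -- the character vanishes on `Y \ 1`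
  have hinv0 : (twist x hx ρ 0).invariants = ⊥ :=
    Submodule.finrank_eq_zero.1 ((finrank_twist_zero hx ρ χ hρ).trans hd)
  have hval : ∀ y : Y, y ≠ 1 → (χ : H → ℂ) (y : H) = 0 := by
    intro y hy
    have hm1 : μ y ≠ 1 := fun h => hy (hker y h)
    have hconst : ∀ i : ZMod p, (χ : H → ℂ) (pw x i * y) = (χ : H → ℂ) (y : H) := by
      intro i
      have h0 : (1 : ZMod p) - μ y ≠ 0 := sub_ne_zero.2 (Ne.symm hm1)
      set k := i * (1 - μ y)⁻¹ with hk
      have hik : i = k + μ y * -k := by rw [hk]; field_simp; ring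
      have h := conj_pw hx (hμ y) (-k)
      rw [hik, pw_add hx, mul_assoc, ← mul_inv_eq_iff_eq_mul.1 h, pw_neg hx, ← mul_assoc]
      exact IsCharacter.conj_apply (irr_isCharacter χ) _ _
    have hzero : (∑ i : ZMod p, ρ (pw x i) : End ℂ (Fin n → ℂ)) = 0 := by
      refine LinearMap.ext fun v => ?_
      have hmem : (∑ i : ZMod p, ρ (pw x i)) v ∈ (twist x hx ρ 0).invariants := by
        intro g
        simp only [LinearMap.sum_apply, map_sum]
        refine Fintype.sum_equiv (Equiv.addLeft g.toAdd) _ _ fun i => ?_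
        simp [twist, pw_add hx, map_mul]
      rw [hinv0, Submodule.mem_bot] at hmem
      rw [hmem, LinearMap.zero_apply]
    have hsum : ∑ i : ZMod p, (χ : H → ℂ) (pw x i * y) = 0 := by
      rw [← hρ]
      simp only [Representation.character, map_mul]
      rw [← map_sum, ← Finset.sum_mul, hzero, zero_mul, map_zero]
    rw [Finset.sum_congr rfl fun i _ => hconst i, Finset.sum_const, Finset.card_univ, ZMod.card,
      nsmul_eq_mul] at hsum
    exact (mul_eq_zero.1 hsum).resolve_left (Nat.cast_ne_zero.2 hp.out.ne_zero)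
  -- so `Y` fixes a line, which is fixed by two point stabilisers
  haveI : Fintype Y := Fintype.ofFinite Y
  have hYdim : finrank ℂ (res ρ Y).invariants = 1 := by
    have h := finrank_fixed ρ Y
    rw [hρ, Finset.sum_eq_single (1 : Y) (fun y _ hy => hval y hy)
      (fun h => absurd (Finset.mem_univ _) h), Subgroup.coe_one, hdeg, hYcard,
      inv_mul_cancel₀ (by
        have := S.one_lt_card_mults
        exact Nat.cast_ne_zero.2 (by omega))] at h
    exact_mod_cast h
  have hle : ∀ c : Ω, (∀ y : Y, (y : H) • c = c) →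
      (res ρ (MulAction.stabilizer H c)).invariants = (res ρ Y).invariants := by
    intro c hc
    have hsub : (res ρ (MulAction.stabilizer H c)).invariants ≤
        (res ρ Y).invariants := fun v hv y => hv ⟨(y : H), hc y⟩
    refine Submodule.eq_of_le_of_finrank_le hsub ?_
    rw [hYdim, finrank_fixed_stabilizer (Ω := Ω) ρ χ hρ c]
    omega
  obtain ⟨v, hv, hv0⟩ := Submodule.exists_mem_ne_zero_of_ne_bot (p := (res ρ Y).invariants)
    fun h => by rw [h, finrank_bot] at hYdim; omega
  have hva : MulAction.stabilizer H a ≤ fixer ρ v := by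
    intro g hg
    have h : v ∈ (res ρ (MulAction.stabilizer H a)).invariants := by
      rw [hle a fun y => (hY y).1]; exact hv
    exact h ⟨g, hg⟩
  have hvb : MulAction.stabilizer H b ≤ fixer ρ v := by
    intro g hg
    have h : v ∈ (res ρ (MulAction.stabilizer H b)).invariants := by
      rw [hle b hYb]; exact hv
    exact h ⟨g, hg⟩
  refine hχ (eq_triv_of_fixed ρ χ hρ hv0 ?_)
  rcases eq_or_ne (MulAction.stabilizer H a) (MulAction.stabilizer H b) with heq | hne
  · exfalso
    obtain ⟨g, hg⟩ := MulAction.exists_smul_eq H a b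
    have hnorm : Subgroup.normalizer ((MulAction.stabilizer H a : Subgroup H) : Set H) = ⊤ := by
      refine (S.coatom a).2 _ (lt_of_le_of_ne Subgroup.le_normalizer fun h => ?_)
      have hgn : g ∈ Subgroup.normalizer ((MulAction.stabilizer H a : Subgroup H) : Set H) := by
        rw [Subgroup.mem_normalizer_iff]
        intro h'
        conv_rhs => rw [heq, MulAction.mem_stabilizer_iff, ← hg, smul_smul,
          inv_mul_cancel_right, mul_smul, smul_left_cancel_iff]
        exact MulAction.mem_stabilizer_iff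
      rw [← h, MulAction.mem_stabilizer_iff, hg] at hgn
      exact hb 0 (by rw [pw_zero, one_smul, hgn])
    haveI : (MulAction.stabilizer H a).Normal := Subgroup.normalizer_eq_top_iff.1 hnorm
    have hbot : MulAction.stabilizer H a = ⊥ := by
      refine (Subgroup.eq_bot_iff_forall _).2 fun g hg => ?_
      refine FaithfulSMul.eq_of_smul_eq_smul (α := Ω) fun c => ?_
      obtain ⟨k, rfl⟩ := MulAction.exists_smul_eq H a c
      have h := Subgroup.Normal.conj_mem inferInstance g hg k⁻¹
      rw [inv_inv, MulAction.mem_stabilizer_iff, mul_smul, mul_smul, inv_smul_eq_iff] at h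
      rw [one_smul]; exact h
    have := S.stabilizer_sup a
    rw [hbot, bot_sup_eq] at this
    exact S.not_zpowers this
  · refine eq_top_iff.2 ?_
    rw [← (S.coatom a).2 (MulAction.stabilizer H a ⊔ MulAction.stabilizer H b)
      (lt_of_le_of_ne le_sup_left fun h => hne ?_)]
    · exact sup_le hva hvb
    · exact ((S.coatom b).le_iff.1 (h.symm ▸ le_sup_right)).resolve_left (S.coatom a).1

end

include S in
theorem Setting.main (a₀ : Ω) :
    MulAction.IsMultiplyPretransitive H Ω 2 ∨
      (Nat.card (MulAction.orbitRel.Quotient (MulAction.stabilizer H a₀) Ω) = 3 ∧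
        ∃ a : ℕ, 0 < a ∧ p = 2 * a ^ 2 + 2 * a + 1 ∧ ∀ b : Ω, b ≠ a₀ →
          Nat.card (MulAction.orbit (MulAction.stabilizer H a₀) b) = a * (2 * a + 1) ∨
          Nat.card (MulAction.orbit (MulAction.stabilizer H a₀) b) = (a + 1) * (2 * a + 1)) := by
  classical
  haveI : Fintype (IrrCharacter H) := Fintype.ofFinite _
  haveI : Nonempty Ω := ⟨a₀⟩
  have h2 : 2 ≤ Nat.card Ω := by
    rw [Nat.card_eq_fintype_card, S.card]; have := hp.out.two_le; omega
  have hrank := PermCharacter.sum_mult_sq (G := H) (Ω := Ω)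
  have htriv := PermCharacter.mult_triv (G := H) (Ω := Ω)
  rcases classify S.weights with ⟨χ₁, ht, hw, hsupp⟩ | ⟨χ₁, χ₂, ht1, ht2, h12, hw1, hw2, hd1, hd2,
    hsupp⟩ | ⟨ξ, ht, hw, hd, hdeg⟩
  · left
    rw [← Lib.Characters.card_orbits_prod_eq_two_iff (G := H) (X := Ω) h2]
    rw [Fintype.sum_eq_add (trivIrr H) χ₁ ht.symm fun χ hχ => ?_, htriv, hw] at hrank
    · exact hrank.symm
    · have h0 : PermCharacter.mult (Ω := Ω) χ = 0 := by
        by_contra h
        rcases hsupp χ h with h | h
        · exact hχ.1 h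
        · exact hχ.2 h
      rw [h0]; norm_num
  · right
    have h0 : ∀ χ, χ ≠ trivIrr H → χ ≠ χ₁ → χ ≠ χ₂ → PermCharacter.mult (Ω := Ω) χ = 0 := by
      intro χ h1 h2' h3
      by_contra h
      rcases hsupp χ h with h | h | h
      · exact h1 h
      · exact h2' h
      · exact h3 h
    have hset : ∀ {R : Type} [AddCommMonoid R] (f : IrrCharacter H → R),
        (∀ χ, χ ≠ trivIrr H → χ ≠ χ₁ → χ ≠ χ₂ → f χ = 0) →
        ∑ χ, f χ = f (trivIrr H) + f χ₁ + f χ₂ := by
      intro R _ f hf
      rw [← Finset.sum_subset (Finset.subset_univ {trivIrr H, χ₁, χ₂}) fun χ _ hχ => by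
        simp only [Finset.mem_insert, Finset.mem_singleton, not_or] at hχ
        exact hf χ hχ.1 hχ.2.1 hχ.2.2]
      rw [Finset.sum_insert (by simp [Ne.symm ht1, Ne.symm ht2]), Finset.sum_pair h12, add_assoc]
    have hr : Nat.card (MulAction.orbitRel.Quotient (MulAction.stabilizer H a₀) Ω) = 3 := by
      rw [← PermCharacter.card_orbits_prod a₀, ← hrank,
        hset (fun χ => PermCharacter.mult (Ω := Ω) χ ^ 2) fun χ a b c => by rw [h0 χ a b c]; rfl,
        htriv, hw1, hw2]
      norm_num
    refine ⟨hr, S0719.result inferInstance S.card a₀ hr χ₁ χ₂ χ₁.2 χ₂.2 ?_ hd1 hd2⟩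
    funext g
    have hdec := congrFun (PermCharacter.decomp (G := H) (Ω := Ω)) g
    simp only [Finset.sum_apply, Pi.smul_apply, smul_eq_mul] at hdec
    rw [hdec, hset _ fun χ a b c => by rw [h0 χ a b c, Nat.cast_zero, zero_mul], htriv, hw1, hw2]
    simp [show ((trivIrr H : IrrCharacter H) : H → ℂ) = fun _ => 1 from rfl]
  · exact (S.no_exceptional ξ ht hw hd hdeg).elim

end Cfsg.Agent.Lib.Perm.TwoPrimeDegree
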