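import Mathlib
import Cfsg.Prelude
import Cfsg.Agent.Lib.Characters.Ortho
import Cfsg.Agent.Lib.Characters.Rep

/-!
# Eigenvalue multiplicities on a self-centralising element of prime order

For `x` of prime order `p` with centraliser `⟨x⟩`, `dm x χ j` is the multiplicity of the
eigenvalue `ψ j` of `x` in a representation affording `χ`. The differences `dm j - dm k`
satisfy orthogonality relations over the irreducible characters.
-/

set_option autoImplicit false
set_option linter.unusedSectionVars false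
set_option linter.style.haveILetI false

namespace Cfsg.Agent.Lib.Perm.TwoPrimeDegree

open Cfsg Cfsg.Agent.Lib.Characters Module
open scoped ComplexConjugate

universe u

variable {H : Type u} [Group H] {p : ℕ} [hp : Fact p.Prime]

/-- Powers indexed by `ZMod p`. -/
def pw (x : H) (i : ZMod p) : H := x ^ i.val

@[simp] theorem pw_zero (x : H) : pw x (0 : ZMod p) = 1 := by simp [pw]

theorem pw_one (x : H) : pw x (1 : ZMod p) = x := by
  simp [pw, ZMod.val_one]

variable {x : H}

theorem pw_add (hx : orderOf x = p) (i j : ZMod p) : pw x (i + j) = pw x i * pw x j := by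
  rw [pw, pw, pw, ← pow_add, ZMod.val_add]
  conv_rhs => rw [← pow_mod_orderOf, hx]

theorem pw_natCast (hx : orderOf x = p) (n : ℕ) : pw x (n : ZMod p) = x ^ n := by
  rw [pw, ZMod.val_natCast, ← hx, pow_mod_orderOf]

theorem pw_injective (hx : orderOf x = p) : Function.Injective (pw x : ZMod p → H) := by
  intro i j h
  rw [pw, pw, pow_inj_mod, hx, Nat.mod_eq_of_lt (ZMod.val_lt i), Nat.mod_eq_of_lt (ZMod.val_lt j)] at h
  exact ZMod.val_injective p h

theorem pw_ne_one (hx : orderOf x = p) {i : ZMod p} (hi : i ≠ 0) : pw x i ≠ 1 := fun h =>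
  hi (pw_injective hx (h.trans (pw_zero x).symm))

theorem pw_neg (hx : orderOf x = p) (i : ZMod p) : pw x (-i) = (pw x i)⁻¹ := by
  rw [eq_inv_iff_mul_eq_one, ← pw_add hx, neg_add_cancel, pw_zero]

theorem conj_pw (hx : orderOf x = p) {g : H} {m : ZMod p} (hg : g * x * g⁻¹ = pw x m)
    (i : ZMod p) : g * pw x i * g⁻¹ = pw x (m * i) := by
  have h : g * x ^ i.val * g⁻¹ = (g * x * g⁻¹) ^ i.val := conj_pow.symm
  rw [show pw x i = x ^ i.val from rfl, h, hg, show pw x m = x ^ m.val from rfl, ← pow_mul,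
    ← pw_natCast hx, Nat.cast_mul, ZMod.natCast_zmod_val, ZMod.natCast_zmod_val]

variable [Fintype H] (p) (x)

open scoped Classical in
/-- The multipliers by which the normaliser acts on `⟨x⟩`. -/
noncomputable def mults : Finset (ZMod p) :=
  Finset.univ.filter fun m => ∃ g : H, g * x * g⁻¹ = pw x m

variable {p} {x}

theorem mem_mults {m : ZMod p} : m ∈ mults p x ↔ ∃ g : H, g * x * g⁻¹ = pw x m := by
  classical
  simp [mults]

theorem one_mem_mults : (1 : ZMod p) ∈ mults p x := mem_mults.2 ⟨1, by simp [pw_one]⟩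

theorem ne_zero_of_mem_mults (hx : orderOf x = p) {m : ZMod p} (hm : m ∈ mults p x) : m ≠ 0 := by
  rintro rfl
  obtain ⟨g, hg⟩ := mem_mults.1 hm
  rw [pw_zero] at hg
  have : x = 1 := by
    have h := congrArg (fun z => g⁻¹ * z * g) hg
    simpa [mul_assoc] using h
  rw [this, orderOf_one] at hx
  exact hp.out.one_lt.ne hx

theorem mul_mem_mults (hx : orderOf x = p) {m m' : ZMod p} (hm : m ∈ mults p x)
    (hm' : m' ∈ mults p x) : m * m' ∈ mults p x := by
  obtain ⟨g, hg⟩ := mem_mults.1 hm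
  obtain ⟨g', hg'⟩ := mem_mults.1 hm'
  refine mem_mults.2 ⟨g * g', ?_⟩
  rw [show g * g' * x * (g * g')⁻¹ = g * (g' * x * g'⁻¹) * g⁻¹ by group, hg', conj_pw hx hg]

theorem inv_mem_mults (hx : orderOf x = p) {m : ZMod p} (hm : m ∈ mults p x) :
    m⁻¹ ∈ mults p x := by
  obtain ⟨g, hg⟩ := mem_mults.1 hm
  refine mem_mults.2 ⟨g⁻¹, ?_⟩
  have h := conj_pw hx hg m⁻¹
  rw [mul_inv_cancel₀ (ne_zero_of_mem_mults hx hm), pw_one] at h
  conv_lhs => rw [← h]
  group

/-- `j` and `k` lie in one orbit of the multipliers. -/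
def Rel (p : ℕ) [Fact p.Prime] (x : H) (j k : ZMod p) : Prop := ∃ m ∈ mults p x, m * j = k

theorem Rel.symm' (hx : orderOf x = p) {j k : ZMod p} (h : Rel p x j k) : Rel p x k j := by
  obtain ⟨m, hm, rfl⟩ := h
  exact ⟨m⁻¹, inv_mem_mults hx hm, by
    rw [← mul_assoc, inv_mul_cancel₀ (ne_zero_of_mem_mults hx hm), one_mul]⟩

theorem rel_refl (j : ZMod p) : Rel p x j j := ⟨1, one_mem_mults, one_mul j⟩

theorem Rel.trans' (hx : orderOf x = p) {i j k : ZMod p} (h : Rel p x i j) (h' : Rel p x j k) :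
    Rel p x i k := by
  obtain ⟨m, hm, rfl⟩ := h
  obtain ⟨n, hn, rfl⟩ := h'
  exact ⟨n * m, mul_mem_mults hx hn hm, mul_assoc _ _ _⟩

variable (x) in
/-- The representation of `ZMod p` twisted by a character. -/
noncomputable def twist (hx : orderOf x = p) {V : Type} [AddCommGroup V] [Module ℂ V]
    (ρ : Representation ℂ H V) (j : ZMod p) :
    Representation ℂ (Multiplicative (ZMod p)) V where
  toFun a := ZMod.stdAddChar (-(a.toAdd * j)) • ρ (pw x a.toAdd)
  map_one' := by
    rw [toAdd_one, zero_mul, neg_zero, AddChar.map_zero_eq_one, pw_zero, map_one, one_smul]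
  map_mul' a b := by
    rw [toAdd_mul, add_mul, neg_add, AddChar.map_add_eq_mul, pw_add hx, map_mul, smul_mul_smul_comm]

theorem exists_mult (hx : orderOf x = p) (χ : IrrCharacter H) (j : ZMod p) :
    ∃ n : ℕ, ∑ i : ZMod p, (χ : H → ℂ) (pw x i) * ZMod.stdAddChar (-(i * j)) = (p : ℂ) * n := by
  obtain ⟨n, ρ, -, hχ⟩ := χ.2
  refine ⟨finrank ℂ (twist x hx ρ j).invariants, ?_⟩
  rw [← Representation.card_inv_mul_sum_char_eq_finrank (twist x hx ρ j), ← mul_assoc,
    Nat.card_eq_fintype_card, Fintype.card_multiplicative, ZMod.card, mul_inv_cancel₀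
      (Nat.cast_ne_zero.2 hp.out.ne_zero), one_mul]
  refine Fintype.sum_equiv Multiplicative.ofAdd _ _ fun i => ?_
  rw [← hχ]
  simp [Representation.character, twist, map_smul, smul_eq_mul, mul_comm]

open scoped Classical in
/-- The multiplicity of the eigenvalue `ψ j` of `x`. -/
noncomputable def dm (p : ℕ) [Fact p.Prime] (x : H) (χ : IrrCharacter H) (j : ZMod p) : ℕ :=
  if hx : orderOf x = p then (exists_mult hx χ j).choose else 0

theorem dm_spec (hx : orderOf x = p) (χ : IrrCharacter H) (j : ZMod p) :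
    ∑ i : ZMod p, (χ : H → ℂ) (pw x i) * ZMod.stdAddChar (-(i * j)) = (p : ℂ) * dm p x χ j := by
  rw [dm, dif_pos hx]
  exact (exists_mult hx χ j).choose_spec

theorem sum_std (c : ZMod p) :
    ∑ i : ZMod p, ZMod.stdAddChar (i * c) = if c = 0 then (p : ℂ) else 0 := by
  classical
  rw [AddChar.sum_mulShift c (ZMod.isPrimitive_stdAddChar p), ZMod.card]
  split <;> simp

theorem sum_dm (hx : orderOf x = p) (χ : IrrCharacter H) :
    ∑ j : ZMod p, (dm p x χ j : ℂ) = (χ : H → ℂ) 1 := by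
  classical
  apply mul_left_cancel₀ (Nat.cast_ne_zero.2 hp.out.ne_zero : (p : ℂ) ≠ 0)
  rw [Finset.mul_sum, Finset.sum_congr rfl fun j _ => (dm_spec hx χ j).symm, Finset.sum_comm]
  have : ∀ i : ZMod p, ∑ j : ZMod p, (χ : H → ℂ) (pw x i) * ZMod.stdAddChar (-(i * j)) =
      if i = 0 then (χ : H → ℂ) (pw x i) * p else 0 := by
    intro i
    rw [← Finset.mul_sum, Finset.sum_congr rfl fun j _ =>
      congrArg ZMod.stdAddChar (show -(i * j) = j * (-i) by ring), sum_std]
    split <;> rename_i h <;> simp_all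
  rw [Finset.sum_congr rfl fun i _ => this i, Finset.sum_ite_eq' Finset.univ (0 : ZMod p),
    if_pos (Finset.mem_univ _), pw_zero, mul_comm]

theorem dm_mul (hx : orderOf x = p) (χ : IrrCharacter H) {m : ZMod p} (hm : m ∈ mults p x)
    (j : ZMod p) : dm p x χ (m * j) = dm p x χ j := by
  have hm0 := ne_zero_of_mem_mults hx hm
  obtain ⟨g, hg⟩ := mem_mults.1 hm
  have h : ∑ i : ZMod p, (χ : H → ℂ) (pw x i) * ZMod.stdAddChar (-(i * (m * j))) =
      ∑ i : ZMod p, (χ : H → ℂ) (pw x i) * ZMod.stdAddChar (-(i * j)) := by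
    refine Fintype.sum_equiv (Equiv.mulLeft₀ m hm0) _ _ fun i => ?_
    show _ = (χ : H → ℂ) (pw x (m * i)) * ZMod.stdAddChar (-(m * i * j))
    rw [← conj_pw hx hg i, IsCharacter.conj_apply (irr_isCharacter χ),
      show i * (m * j) = m * i * j by ring]
  rw [dm_spec hx, dm_spec hx] at h
  exact_mod_cast mul_left_cancel₀ (Nat.cast_ne_zero.2 hp.out.ne_zero : (p : ℂ) ≠ 0) h

theorem dm_rel (hx : orderOf x = p) (χ : IrrCharacter H) {j k : ZMod p} (h : Rel p x j k) :
    dm p x χ j = dm p x χ k := by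
  obtain ⟨m, hm, rfl⟩ := h
  exact (dm_mul hx χ hm j).symm

theorem card_centralizer (hx : orderOf x = p)
    (hC : ∀ g : H, g * x = x * g → ∃ i : ZMod p, g = pw x i) {i : ZMod p} (hi : i ≠ 0) :
    Nat.card (Subgroup.centralizer ({pw x i} : Set H)) = p := by
  have hxi : x = pw x i ^ (i⁻¹).val := by
    rw [pw, ← pow_mul, ← pw_natCast hx, Nat.cast_mul, ZMod.natCast_zmod_val,
      ZMod.natCast_zmod_val, mul_inv_cancel₀ hi, pw_one]
  refine Eq.trans ?_ (Nat.card_zmod p)
  refine (Nat.card_eq_of_bijective (fun j : ZMod p => (⟨pw x j, ?_⟩ :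
    Subgroup.centralizer ({pw x i} : Set H))) ⟨fun a b h => pw_injective hx
      (congrArg Subtype.val h), fun g => ?_⟩).symm
  · rw [Subgroup.mem_centralizer_singleton_iff, ← pw_add hx, ← pw_add hx, add_comm]
  · have hg := Subgroup.mem_centralizer_singleton_iff.1 g.2
    have hgx : (g : H) * x = x * g := by
      have hc : Commute (g : H) (pw x i) := hg
      have h' := (hc.pow_right (i⁻¹).val).eq
      rwa [← hxi] at h'
    obtain ⟨j, hj⟩ := hC _ hgx
    exact ⟨j, Subtype.ext hj.symm⟩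

theorem isConj_pw (hx : orderOf x = p) {i l : ZMod p} (hi : i ≠ 0) :
    IsConj (pw x i) (pw x l) ↔ Rel p x i l := by
  constructor
  · intro h
    obtain ⟨g, hg⟩ := isConj_iff.1 h
    refine ⟨l * i⁻¹, mem_mults.2 ⟨g, ?_⟩, inv_mul_cancel_right₀ hi l⟩
    have hxi : x = pw x i ^ (i⁻¹).val := by
      rw [pw, ← pow_mul, ← pw_natCast hx, Nat.cast_mul, ZMod.natCast_zmod_val,
        ZMod.natCast_zmod_val, mul_inv_cancel₀ hi, pw_one]
    conv_lhs => rw [hxi]
    rw [← conj_pow, hg, pw, ← pow_mul, ← pw_natCast hx, Nat.cast_mul, ZMod.natCast_zmod_val,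
      ZMod.natCast_zmod_val]
  · rintro ⟨m, hm, rfl⟩
    obtain ⟨g, hg⟩ := mem_mults.1 hm
    exact isConj_iff.2 ⟨g, conj_pw hx hg i⟩

variable [Fintype (IrrCharacter H)]

theorem col_orth (hx : orderOf x = p)
    (hC : ∀ g : H, g * x = x * g → ∃ i : ZMod p, g = pw x i) {i : ZMod p} (hi : i ≠ 0)
    (l : ZMod p) :
    ∑ χ : IrrCharacter H, (χ : H → ℂ) (pw x i) * conj ((χ : H → ℂ) (pw x l)) =
      (p : ℂ) * ∑ m ∈ mults p x, if m * i = l then (1 : ℂ) else 0 := by
  classical
  rw [sum_irr_mul_conj]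
  by_cases h : Rel p x i l
  · rw [if_pos ((isConj_pw hx hi).2 h), card_centralizer hx hC hi]
    obtain ⟨m, hm, hml⟩ := h
    rw [Finset.sum_eq_single m (fun n _ hn => if_neg fun hnl => hn
      (mul_right_cancel₀ hi (hnl.trans hml.symm))) (fun h' => absurd hm h'), if_pos hml, mul_one]
  · rw [if_neg (fun h' => h ((isConj_pw hx hi).1 h')), Finset.sum_eq_zero, mul_zero]
    exact fun m hm => if_neg fun hml => h ⟨m, hm, hml⟩

open scoped Classical in
theorem orth (hx : orderOf x = p) (hC : ∀ g : H, g * x = x * g → ∃ i : ZMod p, g = pw x i)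
    (j k j' k' : ZMod p) :
    ∑ χ : IrrCharacter H, ((dm p x χ j : ℤ) - dm p x χ k) * ((dm p x χ j' : ℤ) - dm p x χ k') =
      ∑ m ∈ mults p x, ((if m * j' = j then (1 : ℤ) else 0) - (if m * k' = j then 1 else 0) -
        (if m * j' = k then 1 else 0) + (if m * k' = k then 1 else 0)) := by
  have hp0 : (p : ℂ) ≠ 0 := Nat.cast_ne_zero.2 hp.out.ne_zero
  set u : ZMod p → ZMod p → ZMod p → ℂ := fun j k i =>
    ZMod.stdAddChar (-(i * j)) - ZMod.stdAddChar (-(i * k)) with hu
  have hu0 : ∀ j k, u j k 0 = 0 := fun j k => by simp [hu]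
  have hD : ∀ j k (χ : IrrCharacter H), (p : ℂ) * (((dm p x χ j : ℤ) - dm p x χ k : ℤ) : ℂ) =
      ∑ i : ZMod p, (χ : H → ℂ) (pw x i) * u j k i := by
    intro j k χ
    push_cast
    rw [mul_sub, ← dm_spec hx, ← dm_spec hx, ← Finset.sum_sub_distrib]
    exact Finset.sum_congr rfl fun i _ => (mul_sub _ _ _).symm
  apply Int.cast_injective (α := ℂ)
  apply mul_left_cancel₀ (mul_ne_zero hp0 hp0)
  calc (p : ℂ) * p * ((∑ χ : IrrCharacter H,
          ((dm p x χ j : ℤ) - dm p x χ k) * ((dm p x χ j' : ℤ) - dm p x χ k') : ℤ) : ℂ)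
      = ∑ χ : IrrCharacter H, (∑ i : ZMod p, (χ : H → ℂ) (pw x i) * u j k i) *
          conj (∑ l : ZMod p, (χ : H → ℂ) (pw x l) * u j' k' l) := by
        rw [Int.cast_sum, Finset.mul_sum]
        refine Finset.sum_congr rfl fun χ _ => ?_
        rw [← hD, ← hD, map_mul, map_natCast, map_intCast, Int.cast_mul]
        ring
    _ = ∑ i : ZMod p, ∑ l : ZMod p, u j k i * conj (u j' k' l) *
          ∑ χ : IrrCharacter H, (χ : H → ℂ) (pw x i) * conj ((χ : H → ℂ) (pw x l)) := by
        simp only [map_sum, map_mul, Finset.sum_mul_sum]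
        rw [Finset.sum_comm]
        refine Finset.sum_congr rfl fun i _ => ?_
        rw [Finset.sum_comm]
        refine Finset.sum_congr rfl fun l _ => ?_
        rw [Finset.mul_sum]
        exact Finset.sum_congr rfl fun χ _ => by ring
    _ = ∑ i : ZMod p, (p : ℂ) * ∑ m ∈ mults p x, u j k i * conj (u j' k' (m * i)) := by
        refine Finset.sum_congr rfl fun i _ => ?_
        rcases eq_or_ne i 0 with rfl | hi
        · simp [hu0]
        simp only [col_orth hx hC hi, Finset.mul_sum]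
        rw [Finset.sum_comm]
        refine Finset.sum_congr rfl fun m _ => ?_
        simp only [mul_ite, mul_one, mul_zero]
        rw [Finset.sum_ite_eq, if_pos (Finset.mem_univ _)]
        ring
    _ = (p : ℂ) * ∑ m ∈ mults p x, ∑ i : ZMod p, u j k i * conj (u j' k' (m * i)) := by
        rw [← Finset.mul_sum, Finset.sum_comm]
    _ = _ := by
        rw [Int.cast_sum, mul_assoc (p : ℂ) (p : ℂ)]
        congr 1
        rw [Finset.mul_sum]
        refine Finset.sum_congr rfl fun m _ => ?_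
        have e : ∀ i : ZMod p, u j k i * conj (u j' k' (m * i)) =
            ZMod.stdAddChar (i * (m * j' - j)) - ZMod.stdAddChar (i * (m * k' - j)) -
              ZMod.stdAddChar (i * (m * j' - k)) + ZMod.stdAddChar (i * (m * k' - k)) := by
          intro i
          simp only [hu, map_sub, ← AddChar.map_neg_eq_conj, neg_neg, mul_sub, sub_mul,
            ← AddChar.map_add_eq_mul]
          ring_nf
        simp only [e, Finset.sum_add_distrib, Finset.sum_sub_distrib, sum_std, sub_eq_zero]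
        push_cast
        split_ifs <;> ring

theorem degree_diff (hx : orderOf x = p) (j k : ZMod p) :
    ∑ χ : IrrCharacter H, (χ : H → ℂ) 1 * ((dm p x χ j : ℂ) - dm p x χ k) = 0 := by
  classical
  apply mul_left_cancel₀ (Nat.cast_ne_zero.2 hp.out.ne_zero : (p : ℂ) ≠ 0)
  rw [mul_zero, Finset.mul_sum]
  have e : ∀ χ : IrrCharacter H, (p : ℂ) * ((χ : H → ℂ) 1 * ((dm p x χ j : ℂ) - dm p x χ k)) =
      ∑ i : ZMod p, (χ : H → ℂ) 1 * (χ : H → ℂ) (pw x i) *
        (ZMod.stdAddChar (-(i * j)) - ZMod.stdAddChar (-(i * k))) := by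
    intro χ
    rw [mul_left_comm, mul_sub (p : ℂ), ← dm_spec hx, ← dm_spec hx, ← Finset.sum_sub_distrib,
      Finset.mul_sum]
    exact Finset.sum_congr rfl fun i _ => by ring
  rw [Finset.sum_congr rfl fun χ _ => e χ, Finset.sum_comm]
  refine Finset.sum_eq_zero fun i _ => ?_
  rw [← Finset.sum_mul, sum_degree_mul]
  rcases eq_or_ne i 0 with rfl | hi
  · simp
  · rw [if_neg (pw_ne_one hx hi), zero_mul]

end Cfsg.Agent.Lib.Perm.TwoPrimeDegree
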