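import Cfsg.Agent.Lib.Perm.TwoPrimeDegree.Core
import Cfsg.Agent.Lib.Perm.Jordan

/-!
# Wielandt's theorem on primitive groups of degree `2p`

The even permutations of a primitive group of degree `2p` without a `p`-cycle form a primitive
group in which an element normalising `⟨x⟩` fixes both orbits of the element `x` of order `p`.
-/

set_option autoImplicit false
set_option linter.unusedSectionVars false
set_option linter.style.haveILetI false

namespace Cfsg.Agent.Lib.Perm.TwoPrimeDegree

open MulAction Equiv.Perm
open scoped Pointwise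

universe v

variable {α : Type v} [Fintype α] [DecidableEq α] {p : ℕ} [hp : Fact p.Prime]

theorem sign_eq_one_of_pow {β : Type*} [Fintype β] [DecidableEq β] (hp2 : p ≠ 2)
    {g : Equiv.Perm β} (h : g ^ p = 1) : sign g = 1 := by
  rcases Int.units_eq_one_or (sign g) with e | e
  · exact e
  · have h1 := congrArg sign h
    rw [map_pow, map_one, e, (hp.out.odd_of_ne_two hp2).neg_one_pow] at h1
    exact absurd h1 (by decide)

theorem pw_coe {G : Subgroup (Equiv.Perm α)} (x : G) (i : ZMod p) :
    ((pw x i : G) : Equiv.Perm α) = pw (x : Equiv.Perm α) i := by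
  simp [pw]

/-- A group of even permutations of degree `2p` satisfies the hypotheses of the main case. -/
theorem setting_of_even {H : Subgroup (Equiv.Perm α)} (hp2 : p ≠ 2)
    (hα : Fintype.card α = 2 * p)
    (hfree : ∀ g ∈ H, g ^ p = 1 → ∀ a : α, g a = a → g = 1) (heven : ∀ g ∈ H, sign g = 1)
    (x : H) (hx : orderOf x = p) : Setting p α x := by
  classical
  have hfpf : ∀ i : ZMod p, i ≠ 0 → ∀ a : α, pw x i • a ≠ a := by
    intro i hi a ha
    refine pw_ne_one hx hi (Subtype.ext (hfree _ (pw x i).2 ?_ a ha))
    rw [← Subgroup.coe_pow, ← Subgroup.coe_one H]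
    congr 1
    have hxp : x ^ p = 1 := by rw [← hx]; exact pow_orderOf_eq_one x
    rw [pw, ← pow_mul, mul_comm, pow_mul, hxp, one_pow]
  have hinj : ∀ a : α, Function.Injective fun i : ZMod p => pw x i • a := by
    intro a i j h
    by_contra hne
    refine hfpf (i - j) (sub_ne_zero.2 hne) (pw x j • a) ?_
    rw [smul_smul, ← pw_add hx, sub_add_cancel]
    exact h
  have hpres : ∀ (g : H) (m : ZMod p), g * x * g⁻¹ = pw x m →
      ∀ a : α, ∃ j : ZMod p, g • a = pw x j • a := by
    intro g m hg a
    by_contra hno
    push Not at hno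
    have hm0 : m ≠ 0 := ne_zero_of_mem_mults hx (mem_mults.2 ⟨g, hg⟩)
    have hg' : ∀ (i : ZMod p) (c : α), g • pw x i • c = pw x (m * i) • g • c := by
      intro i c
      rw [smul_smul, smul_smul, mul_inv_eq_iff_eq_mul.1 (conj_pw hx hg i)]
    set b := g • a with hb
    have hba : ∀ i : ZMod p, pw x i • a ≠ b := fun i h => hno i h.symm
    let φ : ZMod p × Bool → α := fun q => pw x q.1 • (if q.2 then b else a)
    have hφinj : Function.Injective φ := by
      rintro ⟨i, s⟩ ⟨j, t⟩ h
      have hcross : ∀ i j : ZMod p, pw x i • a ≠ pw x j • b := by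
        intro i j h
        refine hba (i - j) ?_
        rw [← smul_left_cancel_iff (pw x j), smul_smul, ← pw_add hx, add_sub_cancel, h]
      cases s <;> cases t
      · exact Prod.ext (hinj a h) rfl
      · exact absurd h (hcross i j)
      · exact absurd h.symm (hcross j i)
      · exact Prod.ext (hinj b h) rfl
    have hφ : Function.Bijective φ := (Fintype.bijective_iff_injective_and_card φ).2 ⟨hφinj, by
      rw [Fintype.card_prod, ZMod.card, Fintype.card_bool, hα, mul_comm]⟩
    obtain ⟨c, hc⟩ : ∃ c : ZMod p, g • b = pw x c • a := by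
      obtain ⟨⟨c, s⟩, hq⟩ := hφ.2 (g • b)
      cases s
      · exact ⟨c, hq.symm⟩
      · exfalso
        have h : g • b = g • (pw x (c * m⁻¹) • a) := by
          rw [hg', ← hb, mul_comm m, inv_mul_cancel_right₀ hm0]
          exact hq.symm
        exact hba _ (MulAction.injective g h).symm
    let τ : Equiv.Perm (ZMod p) := Equiv.addLeft c
    let μ : Equiv.Perm (ZMod p) := Equiv.mulLeft₀ m hm0
    let ψ : Equiv.Perm (ZMod p × Bool) :=
      Equiv.prodCongrRight (fun _ : ZMod p => Equiv.swap false true) *
        Equiv.prodCongrLeft (fun s : Bool => if s then τ * μ else μ)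
    have hψ : ∀ q, φ (ψ q) = (g : Equiv.Perm α) (φ q) := by
      rintro ⟨i, s⟩
      cases s
      · show pw x (m * i) • b = g • pw x i • a
        rw [hg', hb]
      · show pw x (c + m * i) • a = g • pw x i • b
        rw [hg', hc, smul_smul, ← pw_add hx, add_comm]
    have hsign : sign (g : Equiv.Perm α) = sign ψ :=
      (sign_eq_sign_of_equiv ψ (g : Equiv.Perm α) (Equiv.ofBijective φ hφ) hψ).symm
    have hτ : sign τ = 1 := by
      refine sign_eq_one_of_pow hp2 (Equiv.ext fun y => ?_)
      have hn : ∀ n : ℕ, (τ ^ n) y = n * c + y := by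
        intro n
        induction n with
        | zero => simp
        | succ n ih =>
          rw [pow_succ', Equiv.Perm.mul_apply, ih]
          show c + ((n : ZMod p) * c + y) = _
          push_cast; ring
      rw [hn, ZMod.natCast_self, zero_mul, zero_add, Equiv.Perm.one_apply]
    rw [heven _ g.2, map_mul, sign_prodCongrRight, sign_prodCongrLeft, Finset.prod_const,
      Finset.card_univ, ZMod.card, sign_swap (by decide), (hp.out.odd_of_ne_two hp2).neg_one_pow,
      Fintype.prod_bool] at hsign
    simp only [if_true, Bool.false_eq_true, if_false, map_mul, hτ, one_mul] at hsign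
    rw [Int.units_mul_self, mul_one] at hsign
    exact absurd hsign (by decide)
  refine ⟨hx, hα, fun g hg => ?_, hfpf, hpres⟩
  have hg1 : g * x * g⁻¹ = pw x (1 : ZMod p) := by rw [pw_one, hg, mul_inv_cancel_right]
  obtain ⟨a⟩ : Nonempty α := Fintype.card_pos_iff.1 (by rw [hα]; have := hp.out.pos; omega)
  obtain ⟨k, hk⟩ := hpres g 1 hg1 a
  refine ⟨k, ?_⟩
  set g' := pw x (-k) * g with hg'
  have hg'x : g' * x = x * g' := by
    rw [hg', mul_assoc, hg, ← mul_assoc, ← mul_assoc]
    congr 1
    exact (Commute.pow_self x _).eq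
  have hg'a : g' • a = a := by
    rw [hg', mul_smul, hk, smul_smul, ← pw_add hx, neg_add_cancel, pw_zero, one_smul]
  have hg'1 : g' * x * g'⁻¹ = pw x (1 : ZMod p) := by rw [pw_one, hg'x, mul_inv_cancel_right]
  have hcomm : ∀ (i : ZMod p) (c : α), g' • pw x i • c = pw x i • g' • c := by
    intro i c
    rw [smul_smul, smul_smul, mul_inv_eq_iff_eq_mul.1 (conj_pw hx hg'1 i), one_mul]
  have hpw : g' ^ p = 1 := by
    refine Subtype.ext (Equiv.ext fun c => ?_)
    obtain ⟨j, hj⟩ := hpres g' 1 hg'1 c
    have hn : ∀ n : ℕ, g' ^ n • c = pw x ((n : ZMod p) * j) • c := by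
      intro n
      induction n with
      | zero => simp
      | succ n ih =>
        rw [pow_succ', mul_smul, ih, hcomm, hj, smul_smul, ← pw_add hx]
        congr 2
        push_cast; ring
    have h := hn p
    rw [ZMod.natCast_self, zero_mul, pw_zero, one_smul] at h
    exact h
  have hone : g' = 1 :=
    Subtype.ext (hfree _ g'.2 (congrArg Subtype.val hpw) a hg'a)
  rw [hg', pw_neg hx, inv_mul_eq_one] at hone
  exact hone.symm

variable {G : Subgroup (Equiv.Perm α)}

/-- The even part of a primitive group of degree `2p` without `p`-cycle is primitive. -/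
theorem preprimitive_even {H : Subgroup (Equiv.Perm α)} (hH : H = G ⊓ alternatingGroup α)
    (hp2 : p ≠ 2) (hα : Fintype.card α = 2 * p) (hG : IsPreprimitive G α)
    (x : H) (hx : orderOf x = p) (S : Setting p α x) :
    IsPreprimitive H α := by
  classical
  haveI := hG
  have hle : H ≤ G := hH ▸ inf_le_left
  have hnorm : ∀ g : G, ∀ h : H, (g : Equiv.Perm α) * h * (g : Equiv.Perm α)⁻¹ ∈ H := by
    intro g h
    subst hH
    refine ⟨G.mul_mem (G.mul_mem g.2 h.2.1) (G.inv_mem g.2), ?_⟩
    exact (inferInstance : (alternatingGroup α).Normal).conj_mem _ h.2.2 _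
  haveI hnt : Nontrivial α := Fintype.one_lt_card_iff_nontrivial.1 (by
    rw [hα]; have := hp.out.two_le; omega)
  let N : Subgroup G := H.subgroupOf G
  haveI : N.Normal := ⟨fun n hn g => hnorm g ⟨_, hn⟩⟩
  have hfix : fixedPoints N α ≠ Set.univ := by
    intro h
    obtain ⟨a⟩ : Nonempty α := inferInstance
    have ha : a ∈ fixedPoints N α := by rw [h]; exact Set.mem_univ a
    exact S.fpf 1 one_ne_zero a (ha ⟨⟨(pw x (1 : ZMod p) : H), hle (pw x (1 : ZMod p)).2⟩,
      (pw x (1 : ZMod p)).2⟩)
  haveI := IsQuasiPreprimitive.isPretransitive_of_normal (G := G) (X := α) (N := N) hfix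
  haveI : IsPretransitive H α := ⟨fun a b => by
    obtain ⟨n, hn⟩ := MulAction.exists_smul_eq N a b
    exact ⟨⟨_, n.2⟩, hn⟩⟩
  refine IsPreprimitive.mk fun {B} hB => ?_
  rcases B.subsingleton_or_nontrivial with h | h
  · exact Or.inl h
  by_cases hu : B = Set.univ
  · exact Or.inr hu
  exfalso
  have hne := h.nonempty
  obtain ⟨a, ha⟩ := hne
  have hcard := hB.ncard_block_mul_ncard_orbit_eq ⟨a, ha⟩
  rw [Nat.card_eq_fintype_card, hα] at hcard
  have hdvd : B.ncard ∣ 2 * p := ⟨_, hcard.symm⟩
  have h1 : 1 < B.ncard := (Set.one_lt_ncard (Set.toFinite B)).2 h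
  have h2 : B.ncard < 2 * p := by
    rw [← hα, ← Nat.card_eq_fintype_card]
    exact (Set.ncard_lt_card hu)
  have hBp : B.ncard = 2 ∨ B.ncard = p := by
    obtain ⟨y, z, hy, hz, hyz⟩ := Nat.dvd_mul.1 hdvd
    rcases (Nat.dvd_prime Nat.prime_two).1 hy with rfl | rfl <;>
      rcases (Nat.dvd_prime hp.out).1 hz with rfl | rfl
    · omega
    · right; omega
    · left; omega
    · omega
  -- translates by elements of `G` are blocks
  have hgB : ∀ g : G, IsBlock H ((g : Equiv.Perm α) • B) := by
    intro g
    rw [isBlock_iff_smul_eq_or_disjoint]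
    intro h'
    have hh : (g : Equiv.Perm α)⁻¹ * h' * (g : Equiv.Perm α) ∈ H := by
      have := hnorm g⁻¹ h'
      simpa using this
    have e : h' • ((g : Equiv.Perm α) • B) =
        (g : Equiv.Perm α) • ((⟨_, hh⟩ : H) • B) := by
      show (h' : Equiv.Perm α) • ((g : Equiv.Perm α) • B) =
        (g : Equiv.Perm α) • (((g : Equiv.Perm α)⁻¹ * h' * (g : Equiv.Perm α)) • B)
      rw [smul_smul, smul_smul, mul_assoc, mul_inv_cancel_left]
    rcases isBlock_iff_smul_eq_or_disjoint.1 hB ⟨_, hh⟩ with h'' | h''
    · left; rw [e, h'']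
    · right; rw [e]; exact (Set.disjoint_image_iff (MulAction.injective _)).2 h''
  rcases hBp with hB2 | hBp'
  · -- blocks of size two
    obtain ⟨b, c, hbc, hBeq⟩ := Set.ncard_eq_two.1 hB2
    have hstab : stabilizer H b = stabilizer H c := by
      have key : ∀ b c : α, B = {b, c} → stabilizer H b ≤ stabilizer H c := by
        intro b c hBeq g hg
        rw [mem_stabilizer_iff] at hg ⊢
        have hgB : g • B = B :=
          (hB.smul_eq_of_mem (hBeq ▸ Set.mem_insert b _ : b ∈ B)
            (by rw [hg]; exact hBeq ▸ Set.mem_insert b _))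
        have hc : g • c ∈ g • B := Set.smul_mem_smul_set (hBeq ▸ Or.inr rfl)
        rw [hgB, hBeq] at hc
        rcases hc with hc | hc
        · have : g • b = g • c := hg.trans hc.symm
          rw [MulAction.injective g this] at hg
          exact hg
        · exact hc
      exact le_antisymm (key b c hBeq) (key c b (hBeq.trans (Set.pair_comm b c)))
    let E : Set α := {d | stabilizer H d = stabilizer H b}
    have hEblock : IsBlock G E := by
      rw [isBlock_iff_smul_eq_of_mem]
      intro g d hd hgd
      have key : ∀ (g : G) (d d' : α), stabilizer H d = stabilizer H d' →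
          stabilizer H (g • d) = stabilizer H (g • d') := by
        intro g d d' hdd
        ext k
        have hk : (g : Equiv.Perm α)⁻¹ * k * (g : Equiv.Perm α) ∈ H := by
          have := hnorm g⁻¹ k
          simpa using this
        have e : ∀ d : α, k ∈ stabilizer H (g • d) ↔ (⟨_, hk⟩ : H) ∈ stabilizer H d := by
          intro d
          simp only [mem_stabilizer_iff]
          show (k : Equiv.Perm α) • ((g : Equiv.Perm α) • d) = (g : Equiv.Perm α) • d ↔
            ((g : Equiv.Perm α)⁻¹ * k * (g : Equiv.Perm α)) • d = d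
          rw [mul_smul, mul_smul, inv_smul_eq_iff]
        rw [e, e, hdd]
      ext y
      rw [Set.mem_smul_set_iff_inv_smul_mem]
      constructor
      · intro hy
        show stabilizer H y = _
        have h1 := key g _ _ (hy.trans hd.symm)
        rw [smul_inv_smul] at h1
        exact h1.trans hgd
      · intro hy
        show stabilizer H (g⁻¹ • y) = _
        have h1 := key g⁻¹ _ _ ((hy : stabilizer H y = _).trans hgd.symm)
        rw [inv_smul_smul] at h1
        exact h1.trans hd
    rcases hG.isTrivialBlock_of_isBlock hEblock with hs | hu'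
    · exact hbc (hs (show stabilizer H b = stabilizer H b from rfl) hstab.symm)
    have hbot : stabilizer H b = ⊥ := by
      refine (Subgroup.eq_bot_iff_forall _).2 fun g hg => ?_
      refine FaithfulSMul.eq_of_smul_eq_smul (α := α) fun d => ?_
      have hd : d ∈ E := by rw [hu']; exact Set.mem_univ d
      rw [← (hd : stabilizer H d = _), mem_stabilizer_iff] at hg
      rw [one_smul]; exact hg
    have hcardH : Nat.card H = 2 * p := by
      rw [← (stabilizer H b).index_mul_card, index_stabilizer_of_transitive, hbot,
        Subgroup.card_bot, mul_one, Nat.card_eq_fintype_card, hα]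
    -- the element of order `p` generates a normal subgroup of `G`
    have hsub : ∀ y : H, orderOf y = p → y ∈ Subgroup.zpowers x := by
      intro y hy
      by_contra hyx
      have hP : ∀ z : H, orderOf z = p → IsPGroup p (Subgroup.zpowers z) := fun z hz =>
        IsPGroup.of_card (n := 1) (by rw [Nat.card_zpowers, hz, pow_one])
      have hidx : (Subgroup.zpowers x : Subgroup H).index = 2 := by
        have := (Subgroup.zpowers x : Subgroup H).index_mul_card
        rw [Nat.card_zpowers, hx, hcardH] at this
        exact Nat.eq_of_mul_eq_mul_right hp.out.pos this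
      haveI := Subgroup.normal_of_index_eq_two hidx
      have h2' : y ^ 2 ∈ Subgroup.zpowers x := Subgroup.sq_mem_of_index_two hidx y
      apply hyx
      obtain ⟨k, hk⟩ := (hp.out.odd_of_ne_two hp2)
      have hyk : y = (y ^ 2) ^ (k + 1) := by
        rw [← pow_mul, show 2 * (k + 1) = p + 1 by omega, pow_succ, ← hy, pow_orderOf_eq_one,
          one_mul]
      rw [hyk]
      exact Subgroup.pow_mem _ h2' _
    let A : Set α := {d | ∃ i : ZMod p, d = pw x i • b}
    have hAblock : IsBlock G A := by
      rw [isBlock_iff_smul_eq_of_mem]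
      intro g d hd hgd
      have hmap : ∀ (g : G) (d e : α), d ∈ A → g • d ∈ A → e ∈ A → g • e ∈ A := by
        intro g d e hd hgd he
        obtain ⟨i, rfl⟩ := hd
        obtain ⟨j, rfl⟩ := he
        obtain ⟨l, hl⟩ := hgd
        have hk := hnorm g (pw x (j - i))
        have hpow : orderOf (⟨_, hk⟩ : H) ∣ p := by
          rw [orderOf_dvd_iff_pow_eq_one]
          refine Subtype.ext ?_
          have hxp : x ^ p = 1 := by rw [← hx]; exact pow_orderOf_eq_one x
          rw [Subgroup.coe_pow, Subgroup.coe_one, conj_pow, ← Subgroup.coe_pow, pw, ← pow_mul,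
            mul_comm, pow_mul, hxp, one_pow, Subgroup.coe_one, mul_one, mul_inv_cancel]
        have hz : (⟨_, hk⟩ : H) ∈ Subgroup.zpowers x := by
          rcases (Nat.dvd_prime hp.out).1 hpow with e | e
          · rw [orderOf_eq_one_iff.1 e]; exact Subgroup.one_mem _
          · exact hsub _ e
        obtain ⟨n, hn⟩ := Subgroup.mem_zpowers_iff.1 hz
        refine ⟨(n : ZMod p) + l, ?_⟩
        have hn' : x ^ n = pw x (n : ZMod p) := by
          rw [pw, ← zpow_natCast x, ZMod.val_intCast, ← hx, zpow_mod_orderOf]
        rw [pw_add hx, ← hn', hn, mul_smul, ← hl]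
        show (g : Equiv.Perm α) • (pw x j • b) =
          ((g : Equiv.Perm α) * (pw x (j - i) : H) * (g : Equiv.Perm α)⁻¹) •
            ((g : Equiv.Perm α) • (pw x i • b))
        rw [mul_smul, mul_smul, inv_smul_smul]
        congr 1
        show pw x j • b = pw x (j - i) • pw x i • b
        rw [smul_smul, ← pw_add hx, sub_add_cancel]
      ext y
      rw [Set.mem_smul_set_iff_inv_smul_mem]
      constructor
      · intro hy
        have := hmap g d (g⁻¹ • y) hd hgd hy
        rwa [smul_inv_smul] at this
      · intro hy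
        exact hmap g⁻¹ (g • d) y hgd (by rw [inv_smul_smul]; exact hd) hy
    rcases hG.isTrivialBlock_of_isBlock hAblock with hs | hu''
    · exact S.fpf 1 one_ne_zero b (hs ⟨1, rfl⟩ ⟨0, by simp⟩)
    · obtain ⟨e, he, -⟩ := S.exists_two b
      have : e ∈ A := by rw [hu'']; exact Set.mem_univ e
      obtain ⟨i, hi⟩ := this
      exact he i hi.symm
  · -- blocks of size `p` are orbits of `x`
    have horb : ∀ B' : Set α, IsBlock H B' → B'.ncard = p → ∀ d ∈ B',
        B' = {e | ∃ i : ZMod p, e = pw x i • d} := by
      intro B' hB' hc d hd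
      have hx2 : ∀ i : ZMod p, pw x i • B' = B' := by
        have hxB : x • B' = B' := by
          have horbit := hB'.ncard_block_mul_ncard_orbit_eq ⟨d, hd⟩
          rw [Nat.card_eq_fintype_card, hα, hc, mul_comm 2] at horbit
          have h2o : (orbit H B').ncard = 2 := Nat.eq_of_mul_eq_mul_left hp.out.pos horbit
          rcases isBlock_iff_smul_eq_or_disjoint.1 hB' x with e | e
          · exact e
          exfalso
          have hne1 : x • B' ≠ B' := fun he => Set.disjoint_left.1 e (he.symm ▸ hd) hd
          have hmem2 : x • x • B' = B' := by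
            obtain ⟨u, w, huw, hset⟩ := Set.ncard_eq_two.1 h2o
            have hm1 : B' ∈ orbit H B' := mem_orbit_self _
            have hm2 : x • B' ∈ orbit H B' := mem_orbit _ _
            have hm3 : x • x • B' ∈ orbit H B' := by
              rw [smul_smul]; exact mem_orbit _ _
            rw [hset] at hm1 hm2 hm3
            have hne2 : x • x • B' ≠ x • B' := fun he => hne1 (MulAction.injective x he)
            rcases hm1 with a1 | a1 <;> rcases hm2 with a2 | a2 <;> rcases hm3 with a3 | a3 <;>
              first
                | exact absurd (a2.trans a1.symm) hne1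
                | exact absurd (a3.trans a2.symm) hne2
                | exact a3.trans a1.symm
          obtain ⟨k, hk⟩ := hp.out.odd_of_ne_two hp2
          have hpow : ∀ n : ℕ, x ^ (2 * n) • B' = B' := by
            intro n
            induction n with
            | zero => simp
            | succ n ih =>
              rw [Nat.mul_succ, pow_add, mul_smul, sq, mul_smul, hmem2, ih]
          apply hne1
          have hxk : x = x ^ (2 * (k + 1)) := by
            rw [show 2 * (k + 1) = p + 1 by omega, pow_succ, ← hx, pow_orderOf_eq_one, one_mul]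
          rw [hxk]; exact hpow _
        intro i
        have hn : ∀ n : ℕ, x ^ n • B' = B' := by
          intro n
          induction n with
          | zero => simp
          | succ n ih => rw [pow_succ, mul_smul, hxB, ih]
        exact hn _
      refine (Set.eq_of_subset_of_ncard_le (fun e he => ?_) ?_ (Set.toFinite B')).symm
      · obtain ⟨i, rfl⟩ := he
        rw [← hx2 i]
        exact Set.smul_mem_smul_set hd
      · rw [hc, show {e | ∃ i : ZMod p, e = pw x i • d} = Set.range fun i : ZMod p => pw x i • d by
          ext e; exact exists_congr fun i => eq_comm,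
          ← Nat.card_coe_set_eq, Nat.card_range_of_injective (S.orbit_inj d), Nat.card_zmod]
    have hBA := horb B hB hBp' a ha
    have hblock : IsBlock G B := by
      rw [isBlock_iff_smul_eq_of_mem]
      intro g d hd hgd
      have hc : ((g : Equiv.Perm α) • B).ncard = p := by rw [Set.ncard_smul_set, hBp']
      show (g : Equiv.Perm α) • B = B
      rw [horb _ (hgB g) hc _ (Set.smul_mem_smul_set hd), horb B hB hBp' _ hgd]
      rfl
    rcases hG.isTrivialBlock_of_isBlock hblock with hs | hu'
    · exact h.not_subsingleton hs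
    · exact hu hu'

/-- Wielandt's theorem on primitive groups of degree `2p`. -/
theorem wielandt (hp2 : p ≠ 2) (hα : Fintype.card α = 2 * p) (hG : IsPreprimitive G α) (a₀ : α) :
    IsMultiplyPretransitive G α 2 ∨ (Nat.card (orbitRel.Quotient (stabilizer G a₀) α) = 3 ∧
      ∃ a : ℕ, 0 < a ∧ p = 2 * a ^ 2 + 2 * a + 1 ∧ ∀ b : α, b ≠ a₀ →
        Nat.card (orbit (stabilizer G a₀) b) = a * (2 * a + 1) ∨
        Nat.card (orbit (stabilizer G a₀) b) = (a + 1) * (2 * a + 1)) := by
  classical
  haveI := hG
  have hp3 : 3 ≤ p := by have := hp.out.two_le; omega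
  haveI hnt : Nontrivial α := Fintype.one_lt_card_iff_nontrivial.1 (by rw [hα]; omega)
  by_cases hcyc : ∃ g ∈ G, g ^ p = 1 ∧ (∃ a : α, g a = a) ∧ g ≠ 1
  · left
    obtain ⟨g, hgG, hgp, ⟨a, hga⟩, hg1⟩ := hcyc
    have hord : orderOf g = p := orderOf_eq_prime hgp hg1
    have hlt : g.support.card < 2 * orderOf g := by
      rw [hord, ← hα, Finset.card_lt_iff_ne_univ]
      intro h
      exact (mem_support.1 (h ▸ Finset.mem_univ a : a ∈ g.support)) hga
    have hc : g.IsCycle := isCycle_of_prime_order (hord ▸ hp.out) hlt
    have halt := Cfsg.Agent.Lib.Perm.alternatingGroup_le_of_prime_cycle G hG hp.out (by omega) hc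
      (hc.orderOf.symm.trans hord) hgG
    have h2 : IsMultiplyPretransitive (alternatingGroup α) α 2 := by
      haveI := alternatingGroup.isMultiplyPretransitive α
      exact isMultiplyPretransitive_of_le (n := Nat.card α - 2)
        (by rw [Nat.card_eq_fintype_card, hα]; omega) (Nat.sub_le _ _)
    rw [is_two_pretransitive_iff] at h2 ⊢
    intro a b c d hab hcd
    obtain ⟨k, hk1, hk2⟩ := h2 hab hcd
    exact ⟨⟨k, halt k.2⟩, hk1, hk2⟩
  push Not at hcyc
  set H := G ⊓ alternatingGroup α with hH
  have hdvd : p ∣ Nat.card G := by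
    rw [← (stabilizer G a₀).index_mul_card, index_stabilizer_of_transitive,
      Nat.card_eq_fintype_card (α := α), hα]
    exact dvd_mul_of_dvd_left (dvd_mul_left p 2) _
  obtain ⟨y, hy⟩ := exists_prime_orderOf_dvd_card' p hdvd
  have hyp : ((y : G) : Equiv.Perm α) ^ p = 1 := by
    rw [← Subgroup.coe_pow, ← hy, pow_orderOf_eq_one, Subgroup.coe_one]
  let x : H := ⟨(y : Equiv.Perm α), y.2, sign_eq_one_of_pow hp2 hyp⟩
  have hx : orderOf x = p := by
    rw [← Subgroup.orderOf_coe]
    show orderOf ((y : G) : Equiv.Perm α) = p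
    rw [Subgroup.orderOf_coe, hy]
  have S : Setting p α x := setting_of_even hp2 hα
    (fun g hg hgp a ha => hcyc g (Subgroup.mem_inf.1 hg).1 hgp ⟨a, ha⟩)
    (fun g hg => (Subgroup.mem_inf.1 hg).2) x hx
  haveI := preprimitive_even (G := G) hH hp2 hα hG x hx S
  haveI : Fintype H := Fintype.ofFinite H
  rcases S.main a₀ with h2 | ⟨h3, a, ha, hpa, hsub⟩
  · left
    rw [is_two_pretransitive_iff] at h2 ⊢
    intro a b c d hab hcd
    obtain ⟨k, hk1, hk2⟩ := h2 hab hcd
    exact ⟨⟨k, (Subgroup.mem_inf.1 k.2).1⟩, hk1, hk2⟩
  -- compare the suborbits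
  have hmono : ∀ b c : α, c ∈ orbit (stabilizer H a₀) b → c ∈ orbit (stabilizer G a₀) b := by
    rintro b c ⟨⟨k, hk⟩, rfl⟩
    exact ⟨⟨⟨k, (Subgroup.mem_inf.1 k.2).1⟩, hk⟩, rfl⟩
  let F : orbitRel.Quotient (stabilizer H a₀) α → orbitRel.Quotient (stabilizer G a₀) α :=
    Quotient.map' id fun b c h => hmono c b h
  have hF : Function.Surjective F := fun q => Quotient.inductionOn' q fun b => ⟨Quotient.mk'' b, rfl⟩
  have hle : Nat.card (orbitRel.Quotient (stabilizer G a₀) α) ≤ 3 :=
    h3 ▸ Nat.card_le_card_of_surjective F hF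
  by_cases hr : Nat.card (orbitRel.Quotient (stabilizer G a₀) α) = 3
  · right
    refine ⟨hr, a, ha, hpa, fun b hb => ?_⟩
    have hinj : Function.Injective F :=
      ((Nat.bijective_iff_surjective_and_card F).2 ⟨hF, h3.trans hr.symm⟩).1
    have heq : orbit (stabilizer G a₀) b = orbit (stabilizer H a₀) b := by
      ext c
      refine ⟨fun hc => ?_, hmono b c⟩
      exact Quotient.exact' (hinj (show F (Quotient.mk'' c) = F (Quotient.mk'' b) from
        Quotient.sound' hc))
    rw [heq]
    exact hsub b hb
  · left
    have h2α : 2 ≤ Nat.card α := by rw [Nat.card_eq_fintype_card, hα]; omega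
    rw [← Lib.Characters.card_orbits_prod_eq_two_iff (G := G) (X := α) h2α]
    haveI : Fintype G := Fintype.ofFinite G
    rw [PermCharacter.card_orbits_prod a₀]
    have hlow : 2 ≤ Nat.card (orbitRel.Quotient (stabilizer G a₀) α) := by
      obtain ⟨b, hb⟩ := exists_ne a₀
      rw [Nat.succ_le_iff, Finite.one_lt_card_iff_nontrivial]
      refine ⟨⟨Quotient.mk'' a₀, Quotient.mk'' b, fun h => hb ?_⟩⟩
      obtain ⟨⟨k, hk⟩, hkb⟩ := Quotient.exact' h.symm
      exact hkb.symm.trans hk
    omega

/-- A primitive group of degree four is doubly transitive. -/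
theorem degree_four (hα : Fintype.card α = 2 * 2) (hG : IsPreprimitive G α) (a : α) :
    IsMultiplyPretransitive G α 2 := by
  classical
  haveI := hG
  haveI : Nontrivial α := Fintype.one_lt_card_iff_nontrivial.1 (by omega)
  have hα' : Nat.card α = 4 := by rw [Nat.card_eq_fintype_card, hα]
  have hcard : Nat.card G = 4 * Nat.card (stabilizer G a) := by
    rw [← (stabilizer G a).index_mul_card, index_stabilizer_of_transitive, hα']
  have hco : IsCoatom (stabilizer G a) := (isCoatom_stabilizer_iff_preprimitive (G := G) a).2 hG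
  have h24 : Nat.card G ∣ 24 := by
    have h := Subgroup.card_subgroup_dvd_card G
    rwa [Nat.card_perm, hα'] at h
  have h6 : Nat.card (stabilizer G a) ∣ 6 :=
    (Nat.mul_dvd_mul_iff_left (by norm_num : 0 < 4)).1 (hcard ▸ h24)
  have h3 : 3 ∣ Nat.card (stabilizer G a) := by
    have hle : Nat.card (stabilizer G a) ≤ 6 := Nat.le_of_dvd (by norm_num) h6
    have hmem : Nat.card (stabilizer G a) ∈ ({1, 2, 3, 6} : Finset ℕ) := by
      revert h6
      generalize Nat.card (stabilizer G a) = n at hle ⊢
      interval_cases n <;> simp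
    simp only [Finset.mem_insert, Finset.mem_singleton] at hmem
    rcases hmem with h | h | h | h <;> try omega
    all_goals
      exfalso
      have hP : IsPGroup 2 G := by
        refine IsPGroup.iff_card.2 ?_
        rw [hcard, h]
        first
          | exact ⟨2, rfl⟩
          | exact ⟨3, rfl⟩
      haveI := Fact.mk Nat.prime_two
      haveI : Group.IsNilpotent G := hP.isNilpotent
      have hn : (stabilizer G a).Normal :=
        Subgroup.NormalizerCondition.normal_of_coatom _ Group.normalizerCondition_of_isNilpotent hco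
      have hbot : stabilizer G a = ⊥ := by
        refine (Subgroup.eq_bot_iff_forall _).2 fun g hg => ?_
        refine FaithfulSMul.eq_of_smul_eq_smul (α := α) fun c => ?_
        obtain ⟨k, rfl⟩ := MulAction.exists_smul_eq G a c
        have h := hn.conj_mem g hg k⁻¹
        rw [inv_inv, mem_stabilizer_iff, mul_smul, mul_smul, inv_smul_eq_iff] at h
        rw [one_smul]; exact h
      rw [hbot, Subgroup.card_bot] at hcard
      obtain ⟨z, hz⟩ := exists_prime_orderOf_dvd_card' (G := G) 2 (by rw [hcard]; norm_num)
      have hz1 : (⊥ : Subgroup G) < Subgroup.zpowers z :=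
        bot_lt_iff_ne_bot.2 fun e => by
          rw [Subgroup.zpowers_eq_bot] at e
          rw [e, orderOf_one] at hz
          norm_num at hz
      have htop := (hbot ▸ hco).2 _ hz1
      have := Nat.card_zpowers z
      rw [htop, Subgroup.card_top, hcard, hz] at this
      norm_num at this
  haveI := Fact.mk Nat.prime_three
  obtain ⟨z, hz⟩ := exists_prime_orderOf_dvd_card' 3 h3
  obtain ⟨b, hb⟩ : ∃ b : α, z • b ≠ b := by
    by_contra h
    push Not at h
    have : z = 1 := Subtype.ext (FaithfulSMul.eq_of_smul_eq_smul (α := α) fun c => by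
      show z • c = (1 : G) • c
      rw [h c, one_smul])
    rw [this, orderOf_one] at hz
    norm_num at hz
  have hza : ∀ n : ℕ, (z ^ n) • a = a := fun n => (z ^ n).2
  have hz3 : ∀ c : α, z • z • z • c = c := fun c => by
    have h : z ^ 3 = 1 := by rw [← hz]; exact pow_orderOf_eq_one z
    rw [smul_smul, smul_smul, ← pow_two z, ← pow_succ, h, one_smul]
  have hba : b ≠ a := fun h => hb (by rw [h]; simpa using hza 1)
  have hb2 : z • z • b ≠ b := fun h => hb (by
    conv_lhs => rw [← h]
    rw [hz3])
  have hne2 : z • z • b ≠ z • b := fun h => hb (MulAction.injective z h)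
  have hz1a : z • b ≠ a := fun h => hba (MulAction.injective z
    (h.trans (by simpa using (hza 1).symm)))
  have hz2a : z • z • b ≠ a := fun h => hz1a (MulAction.injective z
    (h.trans (by simpa using (hza 1).symm)))
  have hall : ∀ c : α, c = a ∨ c ∈ orbit (stabilizer G a) b := by
    intro c
    have hu : ({a, b, z • b, z • z • b} : Finset α) = Finset.univ := by
      refine Finset.eq_univ_of_card _ ?_
      rw [Finset.card_insert_of_notMem (by simp [Ne.symm hba, Ne.symm hz1a, Ne.symm hz2a]),
        Finset.card_insert_of_notMem (by simp [Ne.symm hb, Ne.symm hb2]),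
        Finset.card_pair (Ne.symm hne2), hα]
    have hc : c ∈ ({a, b, z • b, z • z • b} : Finset α) := by rw [hu]; exact Finset.mem_univ c
    simp only [Finset.mem_insert, Finset.mem_singleton] at hc
    rcases hc with rfl | rfl | rfl | rfl
    · exact Or.inl rfl
    · exact Or.inr (mem_orbit_self _)
    · exact Or.inr (mem_orbit _ _)
    · exact Or.inr (by rw [smul_smul]; exact mem_orbit _ _)
  rw [← Lib.Characters.card_orbits_prod_eq_two_iff (G := G) (X := α) (by omega)]
  haveI : Fintype G := Fintype.ofFinite G
  rw [PermCharacter.card_orbits_prod a, Nat.card_eq_two_iff' (Quotient.mk'' a)]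
  refine ⟨Quotient.mk'' b, fun h => ?_, fun q hq => ?_⟩
  · obtain ⟨k, hk⟩ := Quotient.exact' h
    exact hba ((show b = k • a from hk.symm).trans k.2)
  · induction q using Quotient.inductionOn' with
    | h c =>
      rcases hall c with rfl | hc
      · exact absurd rfl hq
      · exact Quotient.sound' hc

end Cfsg.Agent.Lib.Perm.TwoPrimeDegree
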